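import Groth.Agent.Sga7.H150.Global
import Groth.Agent.Sga7.H558.QuadBlow
import Groth.Agent.Models.RMFinal
import Groth.Agent.Models.RMP3
import Groth.Agent.CurvesB.RegModelMain
import Groth.Agent.Lipman.ResFinal

/-!
# Existence of regular proper models with strict normal crossings closed fibre
-/

set_option autoImplicit false
universe u

open CategoryTheory CategoryTheory.Limits AlgebraicGeometry IsLocalRing

namespace Groth.Agent.Sga7.H150.SncModel

open Groth.Agent.Sga7.H744.Defs Groth.Agent.Models Groth.Agent.Models.RMStep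

variable {R : Type u} [CommRing R] [IsDomain R] [IsDiscreteValuationRing R]
  {C : Scheme.{u}} (f : C ⟶ Spec (CommRingCat.of (FractionRing R)))

/-- Existence of an integral regular proper model. -/
theorem exists_isM_regular (hC : Curve.IsSmoothProperCurve (FractionRing R) C f) :
    ∃ (X : Scheme.{u}) (p : X ⟶ Spec (CommRingCat.of R)), IsM f X p ∧
      ∀ x : X, IsRegularLocalRing (X.presheaf.stalk x) := by
  have hC' := hC
  obtain ⟨h1, h2, h3, h4⟩ := hC
  obtain ⟨X, p, hX, hn⟩ := CurvesB.RegModelMain.exists_normal_isM f hC'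
  obtain ⟨hfin, hsing⟩ := RMSing.finite_not_regular f hX hn
    fun x => (VarietyA.SmoothReg.ringKrullDim_stalk_le C x).trans h4.le
  have hprop := hX.proper
  have hln : IsLocallyNoetherian X := LocallyOfFiniteType.isLocallyNoetherian p
  obtain ⟨X', p', hX', hreg⟩ := exists_regular f _ X p hX hfin le_rfl fun x hx => by
    obtain ⟨h5, h6, h7⟩ := hsing x hx
    exact ⟨h5, h6, (RMP3.niceExt f X p hX hn x h5 h6).resolvable (fun B _ _ _ _ _ _ h => Lipman.ResFinal.RES B h) h7⟩
  exact ⟨X', p', hX', hreg⟩

theorem quadBlow : Global.QuadBlow.{u} := by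
  intro X _ x hx hreg hdim
  obtain ⟨X', b, hb⟩ := Groth.Agent.Flat2C.BlowExist.exists_isBlowUp (Groth.Agent.Dix.PointIdeal.pt x hx)
  refine ⟨X', b, Groth.Agent.Dix.PointIdeal.pt x hx, hb, RMBlow.isFiniteTypeIdeal _, ?_, fun x' hx' => ⟨?_, ?_⟩⟩
  · intro z hz
    exact (Groth.Agent.Dix.PointIdeal.mem_support_pt x hx z).1 hz
  · exact H558.QuadBlow.isRegularLocalRing_stalk hb hdim x' hx'
  · have := CalgA.RegBasic.isDomain (X.presheaf.stalk x)
    exact H558.QuadBlow.isQuad_stalkMap hb x' hx'

/-- **Embedded resolution**: a smooth proper curve over the fraction field of a discrete valuation ring has a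
regular proper model, integral, whose closed fibre is a strict normal crossings divisor. -/
theorem exists_isM_snc (hC : Curve.IsSmoothProperCurve (FractionRing R) C f) :
    ∃ (X : Scheme.{u}) (p : X ⟶ Spec (CommRingCat.of R)), IsM f X p ∧
      (∀ x : X, IsRegularLocalRing (X.presheaf.stalk x)) ∧ IsSNCModel p := by
  obtain ⟨X, p, hX, hreg⟩ := exists_isM_regular f hC
  obtain ⟨h1, h2, h3, h4⟩ := hC
  obtain ⟨X', b, hX', hreg', hsnc⟩ := Global.exists_snc_of_isM quadBlow
    (fun x => (VarietyA.SmoothReg.ringKrullDim_stalk_le C x).trans h4.le) hX hreg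
  exact ⟨X', b ≫ p, hX', hreg', hsnc⟩

/-- **Embedded resolution**: a smooth proper curve over the fraction field of a discrete valuation ring has a
regular proper model whose closed fibre is a strict normal crossings divisor. -/
theorem exists_snc_model (R : Type u) [CommRing R] [IsDomain R] [IsDiscreteValuationRing R] (C : Scheme.{u})
    (f : C ⟶ Spec (CommRingCat.of (FractionRing R))) (hC : Curve.IsSmoothProperCurve (FractionRing R) C f) :
    ∃ (X : Scheme.{u}) (p : X ⟶ Spec (CommRingCat.of R)), Models.IsRegularProperModel R X p C f ∧ IsSNCModel p := by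
  obtain ⟨X, p, hX, hreg, hsnc⟩ := exists_isM_snc f hC
  have hprop := hX.proper
  exact ⟨X, p, ⟨⟨hX.flat, inferInstance, inferInstance, hX.pullback⟩, hX.proper, hreg⟩, hsnc⟩

end Groth.Agent.Sga7.H150.SncModel
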