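import Groth.Agent.Sga7.H150.Term
import Mathlib.Order.WellFounded

/-!
# Termination of embedded resolution of curves on regular surfaces, local form

`acc`: the relation "is a bad point of a quadratic transform of a bad point" is accessible at `(A, t)` if
the curves through the closed point on which `t` vanishes have finite normalization.
-/

set_option autoImplicit false
universe u

open IsLocalRing

namespace Groth.Agent.Sga7.H150

open ValChain Quad Chain

/-- A two-dimensional regular local ring with a nonzero element. -/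
structure Pt : Type (u + 1) where
  A : Type u
  [ring : CommRing A]
  [reg : IsRegularLocalRing A]
  dim : ringKrullDim A = 2
  t : A
  ne : t ≠ 0

attribute [instance] Pt.ring Pt.reg

/-- `P1` is a bad point on a quadratic transform of the bad point `P`. -/
def Rel (P1 P : Pt.{u}) : Prop :=
  ¬ H744.Defs.IsSNCElt P1.A P1.t ∧ ¬ H744.Defs.IsSNCElt P.A P.t ∧ ∃ φ : P.A →+* P1.A, IsQuad φ ∧ φ P.t = P1.t

namespace AccAux

lemma SNC2.map_equiv {A B : Type*} [CommRing A] [IsLocalRing A] [CommRing B] [IsLocalRing B] (e : A ≃+* B) {t : A}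
    (h : SNC2 A t) : SNC2 B (e t) := by
  obtain ⟨f, g, hfg, a, b, u, rfl⟩ := h
  refine ⟨e f, e g, ?_, a, b, Units.map e.toRingHom.toMonoidHom u, ?_⟩
  · have h1 : (maximalIdeal A).map (e : A →+* B) = maximalIdeal B := by
      exact map_maximalIdeal_of_surjective _ e.surjective
    rw [← h1, ← hfg, Ideal.map_span, Set.image_pair]
    rfl
  · rw [map_mul, map_mul, map_pow, map_pow]
    rfl

/-- Extension of an embedding in a field along a quadratic transform. -/
lemma exists_extend {A B K : Type u} [CommRing A] [IsLocalRing A] [IsDomain A] [CommRing B] [IsLocalRing B] [IsDomain B] [Field K]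
    (φ : A →+* B) (hφ : IsQuad φ) (hm : ∃ f ∈ maximalIdeal A, f ≠ 0) (ψ : A →+* K) (hψ : Function.Injective ψ) :
    ∃ ψ' : B →+* K, Function.Injective ψ' ∧ ψ'.comp φ = ψ := by
  obtain ⟨hinj, hloc, x, hxm, hx, hfr⟩ := hφ
  have hx0 : φ x ≠ 0 := by
    intro h0
    obtain ⟨f, hf, hf0⟩ := hm
    have h1 : φ f ∈ Ideal.span {φ x} := by
      rw [← hx]; exact Ideal.mem_map_of_mem _ hf
    rw [h0, Ideal.mem_span_singleton, zero_dvd_iff] at h1
    exact hf0 (hinj (h1.trans (map_zero φ).symm))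
  let F := FractionRing B
  let alg : Algebra A F := ((algebraMap B F).comp φ).toAlgebra
  have hB : Function.Injective (algebraMap B F) := IsFractionRing.injective B F
  have hfrac : IsFractionRing A F := by
    refine ⟨?_, ?_, ?_⟩
    · intro y
      apply Ne.isUnit
      intro h
      have h1 : algebraMap B F (φ y) = 0 := h
      have h2 := hinj ((hB (h1.trans (map_zero _).symm)).trans (map_zero φ).symm)
      exact nonZeroDivisors.ne_zero y.2 h2
    · intro c
      obtain ⟨z, w, hw, rfl⟩ := IsFractionRing.div_surjective (A := B) c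
      have hw0 : w ≠ 0 := nonZeroDivisors.ne_zero hw
      obtain ⟨n, a, -, a1, -, s, hs, e1, e2⟩ := hfr z
      obtain ⟨m, b, -, b1, -, r, hr, e3, e4⟩ := hfr w
      have ha1 : φ a1 ≠ 0 := by rw [e1]; exact mul_ne_zero (pow_ne_zero _ hx0) hs.ne_zero
      have hb : φ b ≠ 0 := by rw [e4]; exact mul_ne_zero (pow_ne_zero _ hx0) (mul_ne_zero hr.ne_zero hw0)
      have hab : a1 * b ≠ 0 := by
        intro h
        have := congrArg φ h
        rw [map_mul, map_zero] at this
        exact (mul_ne_zero ha1 hb) this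
      refine ⟨⟨a * b1, ⟨a1 * b, mem_nonZeroDivisors_of_ne_zero hab⟩⟩, ?_⟩
      change algebraMap B F z / algebraMap B F w * algebraMap B F (φ (a1 * b)) = algebraMap B F (φ (a * b1))
      have hwF : algebraMap B F w ≠ 0 := by
        intro h
        exact hw0 (hB (h.trans (map_zero _).symm))
      have e5 : z * φ (a1 * b) = w * φ (a * b1) := by
        rw [map_mul, map_mul, e1, e2, e3, e4]; ring
      have e6 : algebraMap B F z * algebraMap B F (φ (a1 * b)) = algebraMap B F w * algebraMap B F (φ (a * b1)) := by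
        rw [← map_mul, ← map_mul, e5]
      rw [div_mul_eq_mul_div, e6, mul_div_cancel_left₀ _ hwF]
    · intro a b hab
      exact ⟨1, by rw [hinj (hB hab)]⟩
  let Ψ : F →+* K := IsFractionRing.lift (A := A) hψ
  refine ⟨Ψ.comp (algebraMap B F), Ψ.injective.comp hB, ?_⟩
  ext a
  exact IsFractionRing.lift_algebraMap (K := F) hψ a

section chain

variable {K : Type u} [Field K] (f : ℕ → Pt.{u}) (φ : ∀ n, (f n).A →+* (f (n + 1)).A) (hφ : ∀ n, IsQuad (φ n))
  (ψ : ∀ n, (f n).A →+* K) (hψ : ∀ n, Function.Injective (ψ n)) (hc : ∀ n, (ψ (n + 1)).comp (φ n) = ψ n)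

instance (P : Pt.{u}) : IsDomain P.A := CalgA.RegBasic.isDomain P.A

lemma exists_generators (P : Pt.{u}) : ∃ f g : P.A, Ideal.span {f, g} = maximalIdeal P.A := by
  have h1 := IsRegularLocalRing.spanFinrank_maximalIdeal (R := P.A)
  rw [P.dim] at h1
  have h2 : (maximalIdeal P.A).spanFinrank = 2 := by exact_mod_cast h1
  have fg := (maximalIdeal P.A).fg_of_isNoetherianRing
  rw [← Submodule.FG.generators_ncard fg, Set.ncard_eq_two] at h2
  obtain ⟨f, g, -, h⟩ := h2
  refine ⟨f, g, ?_⟩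
  rw [← h]
  exact Submodule.span_generators _

/-- The image of a local ring in a field. -/
noncomputable def im {A : Type u} [CommRing A] [IsLocalRing A] {K : Type u} [Field K] (ψ : A →+* K) : LocalSubring K :=
  @LocalSubring.mk K _ ψ.range (IsLocalRing.of_surjective' ψ.rangeRestrict ψ.rangeRestrict_surjective)

/-- The isomorphism onto the image. -/
noncomputable def eqv {A : Type u} [CommRing A] [IsLocalRing A] {K : Type u} [Field K] (ψ : A →+* K)
    (hψ : Function.Injective ψ) : A ≃+* (im ψ).toSubring :=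
  RingEquiv.ofBijective ψ.rangeRestrict ⟨fun _ _ h => hψ (congrArg Subtype.val h), ψ.rangeRestrict_surjective⟩

lemma mem_im {A : Type u} [CommRing A] [IsLocalRing A] {K : Type u} [Field K] (ψ : A →+* K) (a : A) :
    ψ a ∈ (im ψ).toSubring := ⟨a, rfl⟩

lemma eqv_apply {A : Type u} [CommRing A] [IsLocalRing A] {K : Type u} [Field K] (ψ : A →+* K)
    (hψ : Function.Injective ψ) (a : A) (h : ψ a ∈ (im ψ).toSubring) : (⟨ψ a, h⟩ : (im ψ).toSubring) = eqv ψ hψ a := rfl

lemma mem_mx_im {A : Type u} [CommRing A] [IsLocalRing A] {K : Type u} [Field K] {ψ : A →+* K}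
    (hψ : Function.Injective ψ) {a : A} : ψ a ∈ mx (im ψ) ↔ a ∈ maximalIdeal A := by
  constructor
  · rintro ⟨h1, h2⟩
    rw [mem_maximalIdeal, mem_nonunits_iff] at h2 ⊢
    intro h
    apply h2
    rw [eqv_apply ψ hψ]
    exact h.map (eqv ψ hψ)
  · intro h
    refine ⟨mem_im ψ a, ?_⟩
    rw [mem_maximalIdeal, mem_nonunits_iff] at h ⊢
    intro h'
    apply h
    rw [eqv_apply ψ hψ] at h'
    have := h'.map (eqv ψ hψ).symm
    rwa [RingEquiv.symm_apply_apply] at this

lemma sk_im {A : Type u} [CommRing A] [IsLocalRing A] {K : Type u} [Field K] {ψ : A →+* K}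
    (hψ : Function.Injective ψ) {a : A} : SK (im ψ) (ψ a) ↔ SNC2 A a := by
  constructor
  · rintro ⟨h1, h2⟩
    rw [eqv_apply ψ hψ] at h2
    have h3 := SNC2.map_equiv (eqv ψ hψ).symm h2
    rwa [RingEquiv.symm_apply_apply] at h3
  · intro h
    refine ⟨mem_im ψ a, ?_⟩
    rw [eqv_apply ψ hψ]
    exact SNC2.map_equiv (eqv ψ hψ) h

include hφ hψ hc in
lemma exists_qchain : ∃ C : QChain K, ∀ n, C.A n = im (ψ n) := by
  have hc' : ∀ n a, ψ (n + 1) (φ n a) = ψ n a := fun n a => by rw [← hc n]; rfl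
  choose x hx using fun n => (hφ n).2.2
  refine ⟨⟨fun n => im (ψ n), fun n => ψ n (x n), ?_, ?_, ?_, ?_, ?_, ?_, ?_, ?_⟩, fun n => rfl⟩
  · intro n
    apply le_of_mx
    · rintro _ ⟨a, rfl⟩
      exact ⟨φ n a, hc' n a⟩
    · intro z hz
      obtain ⟨a, rfl⟩ := hz.1
      rw [mem_mx_im (hψ n)] at hz
      rw [← hc' n, mem_mx_im (hψ (n + 1))]
      have := (hφ n).2.1
      rw [mem_maximalIdeal, mem_nonunits_iff] at hz ⊢
      exact fun h => hz (this.map_nonunit a h)
  · intro n
    exact IsRegularLocalRing.of_ringEquiv (eqv (ψ n) (hψ n))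
  · intro n
    rw [← (f n).dim]
    exact (ringKrullDim_eq_of_ringEquiv (eqv (ψ n) (hψ n))).symm
  · intro n
    exact (mem_mx_im (hψ n)).2 (hx n).1
  · intro n y hy
    obtain ⟨a, rfl⟩ := hy.1
    rw [mem_mx_im (hψ n)] at hy
    have h1 : φ n a ∈ Ideal.span {φ n (x n)} := by
      rw [← (hx n).2.1]; exact Ideal.mem_map_of_mem _ hy
    obtain ⟨c, hcc⟩ := Ideal.mem_span_singleton.1 h1
    refine ⟨ψ (n + 1) c, ⟨c, rfl⟩, ?_⟩
    rw [← hc' n a, hcc, map_mul, hc']
  · rintro n _ ⟨z, rfl⟩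
    obtain ⟨m, a, -, a1, -, s, hs, e1, e2⟩ := (hx n).2.2 z
    refine ⟨m, ψ (n + 1) s, ⟨s, rfl⟩, ?_, ⟨a1, ?_⟩, ⟨a, ?_⟩⟩
    · rw [mem_mx_im (hψ (n + 1)), mem_maximalIdeal, mem_nonunits_iff, not_not]
      exact hs
    · rw [← hc' n, e1, map_mul, map_pow, hc']
    · rw [← hc' n a, e2, map_mul, map_pow, hc', map_mul, mul_assoc]
  · intro n
    obtain ⟨f', g', hfg⟩ := exists_generators (f n)
    obtain ⟨y, hy⟩ := (hφ n).exists_param hfg (ne_zero_left (f n).dim hfg) (hx n).2.1
    refine ⟨⟨φ n (x n), hc' n _⟩, eqv (ψ (n + 1)) (hψ (n + 1)) y, ?_⟩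
    have h1 : (maximalIdeal (f (n + 1)).A).map
        ((eqv (ψ (n + 1)) (hψ (n + 1))) : (f (n + 1)).A →+* (im (ψ (n + 1))).toSubring) =
        maximalIdeal (im (ψ (n + 1))).toSubring :=
      map_maximalIdeal_of_surjective _ (eqv (ψ (n + 1)) (hψ (n + 1))).surjective
    have e : ∀ h, (⟨ψ n (x n), h⟩ : (im (ψ (n + 1))).toSubring) = eqv (ψ (n + 1)) (hψ (n + 1)) (φ n (x n)) :=
      fun h => Subtype.ext (hc' n (x n)).symm
    rw [e, ← h1, ← hy, Ideal.map_span, Set.image_pair]
    rfl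
  · rintro n t ⟨⟨a, rfl⟩, ht⟩
    have h1 : SNC2 (f n).A a := (sk_im (hψ n)).1 ⟨⟨a, rfl⟩, ht⟩
    have h2 := h1.quad (hφ n) (fun f' g' h => ne_zero_left (f n).dim h) (hx n).2.1
    have h3 := (sk_im (hψ (n + 1))).2 h2
    rwa [map_mul, hc', hc'] at h3

end chain

end AccAux

open AccAux in
/-- Local termination of embedded resolution: starting from `(A, t)` such that all curves `A ⧸ p`, `t ∈ p`,
have finite normalization, there is no infinite sequence of bad points on successive quadratic transforms. -/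
theorem acc (P : Pt.{u}) (hN : ∀ (p : Ideal P.A) [p.IsPrime], P.t ∈ p → p ≠ maximalIdeal P.A →
    Module.Finite (P.A ⧸ p) (integralClosure (P.A ⧸ p) (FractionRing (P.A ⧸ p)))) : Acc Rel P := by
  by_contra hacc
  obtain ⟨f, rfl, hf⟩ := not_acc_iff_exists_descending_chain.1 hacc
  choose h1 h2 φ hφ ht using hf
  let K := FractionRing (f 0).A
  have hstep : ∀ n (ψ : (f n).A →+* K), Function.Injective ψ →
      ∃ ψ' : (f (n + 1)).A →+* K, Function.Injective ψ' ∧ ψ'.comp (φ n) = ψ := by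
    intro n ψ hψ
    obtain ⟨a, b, hab⟩ := exists_generators (f n)
    exact exists_extend (φ n) (hφ n) ⟨a, mem_left hab, ne_zero_left (f n).dim hab⟩ ψ hψ
  choose g hg1 hg2 using hstep
  let Ψ : ∀ n, {ψ : (f n).A →+* K // Function.Injective ψ} := fun n =>
    Nat.rec ⟨algebraMap _ K, IsFractionRing.injective _ _⟩ (fun n ψ => ⟨g n ψ.1 ψ.2, hg1 n ψ.1 ψ.2⟩) n
  have hΨ : ∀ n, (Ψ (n + 1)).1.comp (φ n) = (Ψ n).1 := fun n => hg2 n (Ψ n).1 (Ψ n).2
  obtain ⟨C, hC⟩ := exists_qchain f φ hφ (fun n => (Ψ n).1) (fun n => (Ψ n).2) hΨ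
  have htn : ∀ n, (Ψ n).1 (f n).t = (Ψ 0).1 (f 0).t := by
    intro n
    induction n with
    | zero => rfl
    | succ n ih =>
      rw [← ih, ← ht n, ← hΨ n]
      rfl
  have hinj0 := (Ψ 0).2
  have key : ∀ (R : LocalSubring K), R = im (Ψ 0).1 → ∀ (h : (Ψ 0).1 (f 0).t ∈ R.toSubring)
      (p : Ideal R.toSubring) [p.IsPrime], (⟨(Ψ 0).1 (f 0).t, h⟩ : R.toSubring) ∈ p →
      p ≠ maximalIdeal R.toSubring → Module.Finite (R.toSubring ⧸ p) (integralClosure (R.toSubring ⧸ p)
        (FractionRing (R.toSubring ⧸ p))) := by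
    rintro R rfl h p hp htp hpm
    let e := eqv (Ψ 0).1 hinj0
    let q : Ideal (f 0).A := p.comap (e : (f 0).A →+* (im (Ψ 0).1).toSubring)
    have hq : q.IsPrime := Ideal.IsPrime.comap _
    have hmap : q.map (e : (f 0).A →+* (im (Ψ 0).1).toSubring) = p :=
      Ideal.map_comap_of_surjective _ e.surjective p
    have h3 : (f 0).t ∈ q := htp
    have h4 : q ≠ maximalIdeal (f 0).A := by
      intro hq'
      apply hpm
      rw [← hmap, hq']
      exact map_maximalIdeal_of_surjective _ e.surjective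
    have h5 := hN q h3 h4
    exact finite_integralClosure (Ideal.quotientEquiv q p e hmap.symm) h5
  have ht0 : (Ψ 0).1 (f 0).t ≠ 0 := fun h => (f 0).ne (hinj0 (h.trans (map_zero _).symm))
  have hmem : (Ψ 0).1 (f 0).t ∈ (C.A 0).toSubring := by
    rw [hC 0]; exact mem_im _ _
  apply C.false_of_forall hmem ht0 ?_ (key (C.A 0) (hC 0) hmem)
  intro j hj
  rw [hC j, ← htn j, sk_im (Ψ j).2] at hj
  rcases j with _ | j
  · exact h2 0 (hj.isSNCElt (f 0).dim)
  · exact h1 j (hj.isSNCElt (f (j + 1)).dim)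

end Groth.Agent.Sga7.H150
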