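import Mathlib.RingTheory.Valuation.LocalSubring
import Mathlib.RingTheory.DedekindDomain.Dvr
import Mathlib.RingTheory.Localization.Integer
import Mathlib.RingTheory.DiscreteValuationRing.TFAE
import Mathlib.RingTheory.IntegralClosure.IntegrallyClosed

/-!
# Chains of local subrings of a field and discrete valuation rings

A chain of one-dimensional local domains `O 0 ≤ O 1 ≤ …` with `𝔪_i O_{i+1}` principal is eventually a
discrete valuation ring, if the integral closure of `O 0` is finite.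
-/

set_option autoImplicit false
universe u

open IsLocalRing

namespace Groth.Agent.Sga7.H150.ValChain

variable {K : Type u} [Field K]

/-- The maximal ideal of a local subring, as a subset of the field. -/
def mx (R : LocalSubring K) : Set K :=
  {z | ∃ h : z ∈ R.toSubring, (⟨z, h⟩ : R.toSubring) ∈ maximalIdeal R.toSubring}

lemma mx_sub {R : LocalSubring K} {z : K} (h : z ∈ mx R) : z ∈ R.toSubring := h.1

lemma mx_mono {R S : LocalSubring K} (h : R ≤ S) {z : K} (hz : z ∈ mx R) : z ∈ mx S := by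
  obtain ⟨h1, h2⟩ := hz
  obtain ⟨h3, h4⟩ := h
  refine ⟨h3 h1, ?_⟩
  rw [mem_maximalIdeal, mem_nonunits_iff] at h2 ⊢
  exact fun hu => h2 (h4.map_nonunit ⟨z, h1⟩ hu)

lemma mx_of_mx {R S : LocalSubring K} (h : R ≤ S) {z : K} (hz : z ∈ R.toSubring) (hz' : z ∈ mx S) : z ∈ mx R := by
  obtain ⟨h1, h2⟩ := hz'
  obtain ⟨h3, h4⟩ := h
  refine ⟨hz, ?_⟩
  rw [mem_maximalIdeal, mem_nonunits_iff] at h2 ⊢
  exact fun hu => h2 (hu.map (Subring.inclusion h3))

lemma inv_mem {R : LocalSubring K} {z : K} (hz : z ∈ R.toSubring) (hz' : z ∉ mx R) :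
    z⁻¹ ∈ R.toSubring ∧ z ≠ 0 := by
  have h1 : IsUnit (⟨z, hz⟩ : R.toSubring) := by
    by_contra h
    exact hz' ⟨hz, (mem_maximalIdeal _).2 h⟩
  obtain ⟨⟨w, hw⟩, h2⟩ := isUnit_iff_exists_inv.1 h1
  have h3 : z * w = 1 := congrArg Subtype.val h2
  have h4 : z ≠ 0 := by
    rintro rfl
    simp at h3
  refine ⟨?_, h4⟩
  rwa [inv_eq_of_mul_eq_one_right h3]

lemma notMem_mx {R : LocalSubring K} {z w : K} (hw : w ∈ R.toSubring) (h : z * w = 1) :
    z ∉ mx R := by
  rintro ⟨h1, h2⟩
  rw [mem_maximalIdeal, mem_nonunits_iff] at h2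
  exact h2 (isUnit_iff_exists_inv.2 ⟨⟨w, hw⟩, Subtype.ext h⟩)

lemma mul_mem_mx {R : LocalSubring K} {z w : K} (hz : z ∈ mx R) (hw : w ∈ R.toSubring) : z * w ∈ mx R := by
  obtain ⟨h1, h2⟩ := hz
  exact ⟨R.toSubring.mul_mem h1 hw, Ideal.mul_mem_right ⟨w, hw⟩ _ h2⟩

/-- A chain of local subrings has an upper bound. -/
lemma exists_ub (O : ℕ → LocalSubring K) (hO : Monotone O) : ∃ R : LocalSubring K, ∀ i, O i ≤ R := by
  have hdir : Directed (· ≤ ·) fun i => (O i).toSubring :=
    (LocalSubring.toSubring_mono.comp hO).directed_le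
  refine ⟨@LocalSubring.mk _ _ (⨆ i, (O i).toSubring) ⟨?_⟩, ?_⟩
  · intro ⟨a, ha⟩ ⟨b, hb⟩ e
    obtain ⟨i, hi⟩ := (Subring.mem_iSup_of_directed hdir).mp ha
    obtain ⟨j, hj⟩ := (Subring.mem_iSup_of_directed hdir).mp hb
    have hCA := (hO (le_max_left i j)).1
    have hCB := (hO (le_max_right i j)).1
    refine ((O (max i j)).2.2 (a := ⟨a, hCA hi⟩) (b := ⟨b, hCB hj⟩)
      (Subtype.ext congr(($e).1))).imp ?_ ?_
    · exact fun h ↦ h.map (Subring.inclusion (le_iSup (fun i ↦ (O i).toSubring) (max i j)))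
    · exact fun h ↦ h.map (Subring.inclusion (le_iSup (fun i ↦ (O i).toSubring) (max i j)))
  · intro i
    refine ⟨le_iSup (fun i ↦ (O i).toSubring) i, ⟨?_⟩⟩
    rintro ⟨a, haA⟩ h
    obtain ⟨⟨b, hb⟩, e⟩ := isUnit_iff_exists_inv.mp h
    obtain ⟨j, hj⟩ := (Subring.mem_iSup_of_directed hdir).mp hb
    have hCA := (hO (le_max_left i j))
    have hCB := (hO (le_max_right i j)).1
    apply hCA.2.1
    exact isUnit_iff_exists_inv.mpr ⟨⟨b, hCB hj⟩, Subtype.ext congr(($e).1)⟩

section

variable (O : ℕ → LocalSubring K) (x : ℕ → K)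

/-- Descent of a conductor element. -/
theorem exists_le_of_conductor (V : ValuationSubring K) [IsDiscreteValuationRing V] (hV : ∀ i, O i ≤ V.toLocalSubring)
    (C : Set K) (hC : ∀ z ∈ C, z ∈ V)
    (hx : ∀ i, x i ∈ mx (O i)) (hx0 : ∀ i, x i ≠ 0)
    (hdvd : ∀ i, ∀ y ∈ mx (O i), ∃ s ∈ (O (i + 1)).toSubring, y = x i * s)
    (b : V) : b ≠ 0 → ∀ j, (b : K) ∈ (O j).toSubring → (∀ z ∈ C, (b : K) * z ∈ (O j).toSubring) →
      ∃ j', ∀ z ∈ C, z ∈ (O j').toSubring := by
  refine (wellFounded_dvdNotUnit (α := V)).induction (C := fun b => b ≠ 0 → ∀ j,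
    (b : K) ∈ (O j).toSubring → (∀ z ∈ C, (b : K) * z ∈ (O j).toSubring) →
      ∃ j', ∀ z ∈ C, z ∈ (O j').toSubring) b ?_
  · intro b ih hb j hbj hbC
    by_cases hbm : (b : K) ∈ mx (O j)
    · obtain ⟨s, hs, hbs⟩ := hdvd j _ hbm
      have hsV : s ∈ V := (hV (j + 1)).1 hs
      have hxV : x j ∈ mx V.toLocalSubring := mx_mono (hV j) (hx j)
      have hxV' : x j ∈ V := hxV.1
      have hb' : b = ⟨x j, hxV'⟩ * ⟨s, hsV⟩ := Subtype.ext hbs
      have hs0 : (⟨s, hsV⟩ : V) ≠ 0 := by
        rintro h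
        apply hb
        rw [hb', h, mul_zero]
      refine ih ⟨s, hsV⟩ ⟨hs0, ⟨x j, hxV'⟩, ?_, ?_⟩ hs0 (j + 1) hs ?_
      · obtain ⟨_, h2⟩ := hxV
        exact h2
      · rw [hb', mul_comm]
      · intro z hz
        have h1 : (b : K) * z ∈ mx (O j) := by
          apply mx_of_mx (hV j) (hbC z hz)
          exact mul_mem_mx (mx_mono (hV j) hbm) (hC z hz)
        obtain ⟨r, hr, hr'⟩ := hdvd j _ h1
        have h2 : s * z = r := by
          apply mul_left_cancel₀ (hx0 j)
          rw [← hr', hbs]; ring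
        change s * z ∈ _
        rw [h2]; exact hr
    · obtain ⟨h1, h2⟩ := inv_mem hbj hbm
      refine ⟨j, fun z hz => ?_⟩
      have : z = (b : K)⁻¹ * (b * z) := by field_simp
      rw [this]
      exact (O j).toSubring.mul_mem h1 (hbC z hz)

/-- A chain of one-dimensional local domains with `𝔪_i O_{i+1} = x_i O_{i+1}` becomes a discrete valuation
ring, if the integral closure of `O_0` is finite. -/
theorem exists_dvr (hO : Monotone O) (hx : ∀ i, x i ∈ mx (O i)) (hx0 : ∀ i, x i ≠ 0)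
    (hdvd : ∀ i, ∀ y ∈ mx (O i), ∃ s ∈ (O (i + 1)).toSubring, y = x i * s)
    [IsNoetherianRing (O 0).toSubring] [Ring.DimensionLEOne (O 0).toSubring]
    [IsFractionRing (O 0).toSubring K]
    [Module.Finite (O 0).toSubring (integralClosure (O 0).toSubring K)] :
    ∃ (V : ValuationSubring K) (_ : IsDiscreteValuationRing V) (j0 : ℕ), (∀ i, O i ≤ V.toLocalSubring) ∧
      ∀ j, j0 ≤ j → O j = V.toLocalSubring := by
  obtain ⟨R, hR⟩ := exists_ub O hO
  obtain ⟨V, hRV⟩ := R.exists_le_valuationSubring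
  have hV : ∀ i, O i ≤ V.toLocalSubring := fun i => (hR i).trans hRV
  let R0 := (O 0).toSubring
  let C := integralClosure R0 K
  have hCint : ∀ z ∈ C, z ∈ V := by
    intro z hz
    have hz' : IsIntegral R0 z := hz
    have : IsIntegral V.toLocalSubring.toSubring z :=
      hz'.map_of_comp_eq (Subring.inclusion (hV 0).1) (RingHom.id K) rfl
    exact LocalSubring.mem_of_isMax_of_isIntegral V.isMax_toLocalSubring this
  have hCnoeth : IsNoetherianRing C := IsNoetherianRing.of_finite R0 C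
  have hCic : IsIntegrallyClosed C := integralClosure.isIntegrallyClosedOfFiniteExtension K
  have hCded : IsDedekindDomain C := { }
  have hCV : C.toSubring ≤ V.toSubring := hCint
  let P : Ideal C.toSubring := (maximalIdeal V.toLocalSubring.toSubring).comap (Subring.inclusion hCV)
  have hPprime : P.IsPrime := Ideal.IsPrime.comap _
  have hR0C : R0 ≤ C.toSubring := fun z hz => C.algebraMap_mem ⟨z, hz⟩
  have hPne : P ≠ ⊥ := by
    intro h
    have h1 := mx_mono (hV 0) (hx 0)
    obtain ⟨h2, h3⟩ := h1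
    have h4 : (⟨x 0, hR0C (hx 0).1⟩ : C.toSubring) ∈ P := h3
    rw [h, Ideal.mem_bot] at h4
    exact hx0 0 (congrArg Subtype.val h4)
  have hCded' : IsDedekindDomain C.toSubring := hCded
  let D := LocalSubring.ofPrime C.toSubring P
  have hDdvr : IsDiscreteValuationRing D.toSubring :=
    IsLocalization.AtPrime.isDiscreteValuationRing_of_dedekind_domain C.toSubring hPne D.toSubring
  -- elements of `D` are fractions
  have hD : ∀ z ∈ D.toSubring, ∃ a ∈ C, ∃ s ∈ C, z * s = a ∧ s ∈ V.toLocalSubring.toSubring ∧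
      s ∉ mx V.toLocalSubring ∧ (a ∈ mx V.toLocalSubring → z ∈ mx D) := by
    intro z hz
    obtain ⟨⟨a, s⟩, h⟩ := IsLocalization.surj (M := P.primeCompl) (⟨z, hz⟩ : D.toSubring)
    refine ⟨a.1, a.2, s.1.1, s.1.2, congrArg Subtype.val h, hCV s.1.2, ?_, ?_⟩
    · rintro ⟨h1, h2⟩
      exact s.2 h2
    · rintro ⟨h1, h2⟩
      refine ⟨hz, ?_⟩
      have h3 : algebraMap C.toSubring D.toSubring a ∈ maximalIdeal D.toSubring := by
        rw [← IsLocalization.AtPrime.map_eq_maximalIdeal P]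
        exact Ideal.mem_map_of_mem _ h2
      rw [← h] at h3
      rcases (maximalIdeal.isMaximal D.toSubring).isPrime.mem_or_mem h3 with h4 | h4
      · exact h4
      · exact absurd (IsLocalization.map_units D.toSubring s) ((mem_nonunits_iff).1 ((mem_maximalIdeal _).1 h4))
  have hDV : D.toSubring ≤ V.toSubring := by
    intro z hz
    obtain ⟨a, ha, s, hs, h1, h2, h3, -⟩ := hD z hz
    obtain ⟨h4, h5⟩ := inv_mem h2 h3
    have : z = a * s⁻¹ := by rw [← h1]; field_simp
    rw [this]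
    exact V.toSubring.mul_mem (hCV ha) h4
  have hVD : V.toSubring ≤ D.toSubring := by
    intro z hz
    obtain ⟨a, s, hs, rfl⟩ := IsFractionRing.div_surjective (A := R0) z
    have hs0 : (s : K) ≠ 0 := by
      intro h
      exact (nonZeroDivisors.ne_zero hs) (Subtype.ext h)
    have hRD : R0 ≤ D.toSubring := hR0C.trans (LocalSubring.le_ofPrime _ _)
    rcases ValuationRing.dvd_total (⟨a.1, hRD a.2⟩ : D.toSubring) ⟨s.1, hRD s.2⟩ with ⟨d, hd⟩ | ⟨d, hd⟩
    · have hd' : (s : K) = a * d := congrArg Subtype.val hd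
      by_cases ha0 : (a : K) = 0
      · exfalso
        rw [ha0, zero_mul] at hd'
        exact hs0 hd'
      have hd0 : (d : K) ≠ 0 := by
        intro h
        rw [h, mul_zero] at hd'
        exact hs0 hd'
      have e : algebraMap R0 K a / algebraMap R0 K s = (d : K)⁻¹ := by
        change (a : K) / (s : K) = _
        rw [hd']
        field_simp
      rw [e] at hz ⊢
      have h1 : (d : K) ∉ mx D := by
        intro hdm
        obtain ⟨a', ha', s', hs', h1, h2, h3, h4⟩ := hD d d.2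
        have h5 : (d : K) ∈ mx V.toLocalSubring := by
          have h6 : a' ∈ mx V.toLocalSubring := by
            obtain ⟨h7, h8⟩ := hdm
            by_contra h9
            obtain ⟨h10, h11⟩ := inv_mem (hCV ha') h9
            have h12 : (⟨a', ha'⟩ : C.toSubring) ∈ P.primeCompl := fun h13 => h9 ⟨hCV ha', h13⟩
            have h14 := IsLocalization.map_units D.toSubring (⟨⟨a', ha'⟩, h12⟩ : P.primeCompl)
            have h15 : algebraMap C.toSubring D.toSubring ⟨a', ha'⟩ = ⟨d, h7⟩ *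
                algebraMap C.toSubring D.toSubring ⟨s', hs'⟩ := Subtype.ext h1.symm
            rw [h15] at h14
            exact (mem_nonunits_iff.1 ((mem_maximalIdeal _).1 h8)) (isUnit_of_mul_isUnit_left h14)
          have h7 : (d : K) = a' * s'⁻¹ := by
            obtain ⟨h8, h9⟩ := inv_mem h2 h3
            rw [← h1]; field_simp
          rw [h7]
          exact mul_mem_mx h6 (inv_mem h2 h3).1
        exact notMem_mx (R := V.toLocalSubring) hz (mul_inv_cancel₀ hd0) h5
      exact (inv_mem d.2 h1).1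
    · have hd' : (a : K) = s * d := congrArg Subtype.val hd
      have e : algebraMap R0 K a / algebraMap R0 K s = (d : K) := by
        change (a : K) / (s : K) = _
        rw [hd']
        field_simp
      rw [e]
      exact d.2
  have hDeq : D.toSubring = V.toSubring := le_antisymm hDV hVD
  have hVdvr : IsDiscreteValuationRing V := by
    have h : IsDiscreteValuationRing V.toSubring := by rw [← hDeq]; exact hDdvr
    exact h
  -- the conductor
  obtain ⟨b, hb⟩ : ∃ b : nonZeroDivisors R0, ∀ z ∈ C, ((b : R0) : K) * z ∈ R0 := by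
    obtain ⟨S, hS⟩ := (inferInstance : Module.Finite R0 C).fg_top
    obtain ⟨b, hb⟩ := IsLocalization.exist_integer_multiples (nonZeroDivisors R0) S (fun c => (c : K))
    refine ⟨b, fun z hz => ?_⟩
    have h1 : (⟨z, hz⟩ : C) ∈ Submodule.span R0 (S : Set C) := by rw [hS]; trivial
    refine Submodule.span_induction (p := fun (c : C) _ => ((b : R0) : K) * (c : K) ∈ R0) ?_ ?_ ?_ ?_ h1
    · intro c hc
      obtain ⟨r, hr⟩ := hb c hc
      have : ((b : R0) : K) * (c : K) = r := by
        rw [show (r : K) = algebraMap R0 K r from rfl, hr]; rfl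
      rw [this]; exact r.2
    · simp
    · intro c d _ _ hc hd
      have e : ((b : R0) : K) * ((c + d : C) : K) = ((b : R0) : K) * c + ((b : R0) : K) * d := by
        rw [← mul_add]; rfl
      rw [e]; exact R0.add_mem hc hd
    · intro r c _ hc
      have e : ((b : R0) : K) * ((r • c : C) : K) = (r : K) * (((b : R0) : K) * c) := by
        rw [show ((r • c : C) : K) = (r : K) * (c : K) from rfl]; ring
      rw [e]; exact R0.mul_mem r.2 hc
  have hbV : ((b : R0) : K) ∈ V := (hV 0).1 (b : R0).2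
  have hb0 : (⟨((b : R0) : K), hbV⟩ : V) ≠ 0 := by
    intro h
    have h' : ((b : R0) : K) = 0 := congrArg (fun v : V => (v : K)) h
    exact (nonZeroDivisors.ne_zero b.2) (Subtype.ext h')
  obtain ⟨j0, hj0⟩ := exists_le_of_conductor O x V hV (C : Set K) hCint hx hx0 hdvd
    ⟨((b : R0) : K), hbV⟩ hb0 0 (b : R0).2 hb
  refine ⟨V, hVdvr, j0, hV, fun j hj => le_antisymm (hV j) ?_⟩
  have h0 : V.toSubring ≤ (O j0).toSubring := by
    intro z hz
    obtain ⟨a, ha, s, hs, h1, h2, h3, -⟩ := hD z (hVD hz)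
    have h4 : s ∉ mx (O j0) := fun h => h3 (mx_mono (hV j0) h)
    obtain ⟨h5, h6⟩ := inv_mem (hj0 s hs) h4
    have : z = a * s⁻¹ := by rw [← h1]; field_simp
    rw [this]
    exact (O j0).toSubring.mul_mem (hj0 a ha) h5
  have h1 : V.toSubring ≤ (O j).toSubring := h0.trans (hO hj).1
  refine ⟨h1, ⟨?_⟩⟩
  rintro ⟨z, hz⟩ hu
  have h2 : z ∉ mx (O j) := by
    intro h
    exact (mem_nonunits_iff.1 ((mem_maximalIdeal _).1 h.2)) hu
  have h3 : z ∉ mx V.toLocalSubring := fun h => h2 (mx_of_mx (hV j) (h1 hz) h)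
  by_contra hnu
  exact h3 ⟨hz, (mem_maximalIdeal _).2 hnu⟩

end

end Groth.Agent.Sga7.H150.ValChain
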