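import Groth.Agent.Sga7.H150.Quad
import Groth.Agent.Sga7.H150.ValChain
import Mathlib.RingTheory.Ideal.MinimalPrime.Noetherian

/-!
# Infinite chains of quadratic transforms in a field

-/

set_option autoImplicit false
universe u

open IsLocalRing

namespace Groth.Agent.Sga7.H150.Chain

open ValChain Quad

variable {K : Type u} [Field K]

/-- A prime ideal of a local subring, as a subset of the field. -/
structure IsPr (R : LocalSubring K) (Q : Set K) : Prop where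
  sub : ∀ z ∈ Q, z ∈ mx R
  zero : (0 : K) ∈ Q
  add : ∀ z ∈ Q, ∀ w ∈ Q, z + w ∈ Q
  mul : ∀ z ∈ Q, ∀ w ∈ R.toSubring, z * w ∈ Q
  prime : ∀ z ∈ R.toSubring, ∀ w ∈ R.toSubring, z * w ∈ Q → z ∈ Q ∨ w ∈ Q

lemma IsPr.inter {R S : LocalSubring K} (h : R ≤ S) {Q : Set K} (hQ : IsPr S Q) :
    IsPr R (Q ∩ R.toSubring) where
  sub z hz := mx_of_mx h hz.2 (hQ.sub z hz.1)
  zero := ⟨hQ.zero, R.toSubring.zero_mem⟩
  add z hz w hw := ⟨hQ.add z hz.1 w hw.1, R.toSubring.add_mem hz.2 hw.2⟩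
  mul z hz w hw := ⟨hQ.mul z hz.1 w (h.1 hw), R.toSubring.mul_mem hz.2 hw⟩
  prime z hz w hw hzw := (hQ.prime z (h.1 hz) w (h.1 hw) hzw.1).imp (fun h => ⟨h, hz⟩) (fun h => ⟨h, hw⟩)

/-- The ideal attached to `IsPr`. -/
def IsPr.ideal {R : LocalSubring K} {Q : Set K} (hQ : IsPr R Q) : Ideal R.toSubring where
  carrier := {z | (z : K) ∈ Q}
  zero_mem' := hQ.zero
  add_mem' := fun ha hb => hQ.add _ ha _ hb
  smul_mem' := fun c z hz => by
    change ((c * z : R.toSubring) : K) ∈ Q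
    rw [mul_comm]
    exact hQ.mul _ hz _ c.2

lemma IsPr.mem_ideal {R : LocalSubring K} {Q : Set K} (hQ : IsPr R Q) (z : R.toSubring) :
    z ∈ hQ.ideal ↔ (z : K) ∈ Q := Iff.rfl

lemma IsPr.one_notMem {R : LocalSubring K} {Q : Set K} (hQ : IsPr R Q) : (1 : K) ∉ Q := by
  intro h
  exact notMem_mx (R := R) R.toSubring.one_mem (mul_one 1) (hQ.sub 1 h)

lemma IsPr.ideal_isPrime {R : LocalSubring K} {Q : Set K} (hQ : IsPr R Q) : hQ.ideal.IsPrime where
  ne_top' := by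
    intro h
    have : (1 : R.toSubring) ∈ hQ.ideal := by rw [h]; trivial
    exact hQ.one_notMem this
  mem_or_mem' := by
    intro a b hab
    exact hQ.prime _ a.2 _ b.2 hab

lemma isPr_of_ideal {R : LocalSubring K} (q : Ideal R.toSubring) [q.IsPrime] :
    IsPr R (Subtype.val '' (q : Set R.toSubring)) where
  sub := by
    rintro _ ⟨z, hz, rfl⟩
    exact ⟨z.2, le_maximalIdeal (Ideal.IsPrime.ne_top') hz⟩
  zero := ⟨0, q.zero_mem, rfl⟩
  add := by
    rintro _ ⟨z, hz, rfl⟩ _ ⟨w, hw, rfl⟩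
    exact ⟨z + w, q.add_mem hz hw, rfl⟩
  mul := by
    rintro _ ⟨z, hz, rfl⟩ w hw
    exact ⟨z * ⟨w, hw⟩, q.mul_mem_right _ hz, rfl⟩
  prime := by
    rintro z hz w hw ⟨v, hv, hv'⟩
    have h1 : v = ⟨z, hz⟩ * ⟨w, hw⟩ := Subtype.ext hv'
    rw [SetLike.mem_coe, h1] at hv
    rcases (inferInstance : q.IsPrime).mem_or_mem hv with h | h
    · exact Or.inl ⟨_, h, rfl⟩
    · exact Or.inr ⟨_, h, rfl⟩

lemma mem_image_iff {R : LocalSubring K} (q : Ideal R.toSubring) (z : R.toSubring) :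
    (z : K) ∈ Subtype.val '' (q : Set R.toSubring) ↔ z ∈ q := by
  constructor
  · rintro ⟨w, hw, hwz⟩
    rwa [← Subtype.ext hwz]
  · intro h
    exact ⟨z, h, rfl⟩

lemma IsPr.notMem {R : LocalSubring K} {Q : Set K} (hQ : IsPr R Q) {z : K} (hz : z ∉ mx R) : z ∉ Q :=
  fun h => hz (hQ.sub z h)

lemma IsPr.pow_notMem {R : LocalSubring K} {Q : Set K} (hQ : IsPr R Q) {z : K} (hz : z ∈ R.toSubring)
    (hzQ : z ∉ Q) (n : ℕ) : z ^ n ∉ Q := by
  induction n with
  | zero => rw [pow_zero]; exact hQ.one_notMem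
  | succ n ih =>
    rw [pow_succ]
    intro h
    exact (hQ.prime _ (R.toSubring.pow_mem hz n) _ hz h).elim ih hzQ

lemma IsPr.mul_notMem {R : LocalSubring K} {Q : Set K} (hQ : IsPr R Q) {z w : K} (hz : z ∈ R.toSubring)
    (hw : w ∈ R.toSubring) (hzQ : z ∉ Q) (hwQ : w ∉ Q) : z * w ∉ Q := 
  fun h => (hQ.prime _ hz _ hw h).elim hzQ hwQ

/-- `SNC2` for elements of the field. -/
def SK (R : LocalSubring K) (t : K) : Prop := ∃ h : t ∈ R.toSubring, SNC2 R.toSubring ⟨t, h⟩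

/-- If `e` lies in all primes containing `t`, and `e` is in normal crossings form, so is `t`. -/
lemma SK.of_forall {R : LocalSubring K} [IsRegularLocalRing R.toSubring] (hR : ringKrullDim R.toSubring = 2)
    {t e : K} (ht : t ∈ R.toSubring) (he : SK R e) (h : ∀ Q : Set K, IsPr R Q → t ∈ Q → e ∈ Q) : SK R t := by
  obtain ⟨he', he⟩ := he
  refine ⟨ht, ?_⟩
  have h1 : (⟨e, he'⟩ : R.toSubring) ∈ (Ideal.span {(⟨t, ht⟩ : R.toSubring)}).radical := by
    rw [Ideal.radical_eq_sInf, Submodule.mem_sInf]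
    rintro q ⟨hq, hqp⟩
    have h2 := h _ (isPr_of_ideal q) ((mem_image_iff q ⟨t, ht⟩).2 (hq (Ideal.mem_span_singleton_self _)))
    exact (mem_image_iff q ⟨e, he'⟩).1 h2
  obtain ⟨N, hN⟩ := h1
  exact he.of_dvd_pow hR N (Ideal.mem_span_singleton.1 hN)

/-- The data of a chain of quadratic transforms in a field. -/
structure QChain (K : Type u) [Field K] where
  A : ℕ → LocalSubring K
  x : ℕ → K
  le : ∀ i, A i ≤ A (i + 1)
  reg : ∀ i, IsRegularLocalRing (A i).toSubring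
  dim : ∀ i, ringKrullDim (A i).toSubring = 2
  x_mem : ∀ i, x i ∈ mx (A i)
  dvd : ∀ i, ∀ y ∈ mx (A i), ∃ s ∈ (A (i + 1)).toSubring, y = x i * s
  gen : ∀ i, ∀ z ∈ (A (i + 1)).toSubring, ∃ n : ℕ, ∃ v ∈ (A (i + 1)).toSubring, v ∉ mx (A (i + 1)) ∧
    x i ^ n * v ∈ (A i).toSubring ∧ x i ^ n * v * z ∈ (A i).toSubring
  par : ∀ i, ∃ (h : x i ∈ (A (i + 1)).toSubring) (y : (A (i + 1)).toSubring),
    Ideal.span {⟨x i, h⟩, y} = maximalIdeal (A (i + 1)).toSubring
  snc : ∀ i t, SK (A i) t → SK (A (i + 1)) (t * x i)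

namespace QChain

variable (C : QChain K)

instance (i : ℕ) : IsRegularLocalRing (C.A i).toSubring := C.reg i

lemma mono : Monotone C.A := monotone_nat_of_le_succ C.le

lemma x_mem' {i j : ℕ} (h : i ≤ j) : C.x i ∈ mx (C.A j) := mx_mono (C.mono h) (C.x_mem i)

lemma x_ne_zero (i : ℕ) : C.x i ≠ 0 := by
  obtain ⟨h, y, hy⟩ := C.par i
  have := ne_zero_left (C.dim (i + 1)) hy
  intro h0
  exact this (Subtype.ext h0)

/-- The product of the exceptional parameters. -/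
noncomputable def e (j : ℕ) : K := ∏ i ∈ Finset.range j, C.x i

lemma e_succ (j : ℕ) : C.e (j + 1) = C.e j * C.x j := by
  rw [e, e, Finset.prod_range_succ]

lemma sk_e (j : ℕ) : SK (C.A j) (C.e j) := by
  induction j with
  | zero =>
    rw [e, Finset.prod_range_zero]
    refine ⟨(C.A 0).toSubring.one_mem, ?_⟩
    have h1 := IsRegularLocalRing.spanFinrank_maximalIdeal (R := (C.A 0).toSubring)
    rw [C.dim 0] at h1
    have h2 : (maximalIdeal (C.A 0).toSubring).spanFinrank = 2 := by exact_mod_cast h1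
    have fg := (maximalIdeal (C.A 0).toSubring).fg_of_isNoetherianRing
    rw [← Submodule.FG.generators_ncard fg, Set.ncard_eq_two] at h2
    obtain ⟨f, g, -, h⟩ := h2
    refine ⟨f, g, ?_, 0, 0, 1, ?_⟩
    · rw [← h]
      exact Submodule.span_generators _
    · simp only [Units.val_one, pow_zero, mul_one]
      rfl
  | succ j ih =>
    rw [e_succ]
    exact C.snc j _ ih

lemma e_mem_of_mem {j : ℕ} {Q : Set K} (hQ : IsPr (C.A j) Q) {i : ℕ} (hi : i < j) (hx : C.x i ∈ Q) : C.e j ∈ Q := by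
  rw [e, ← Finset.mul_prod_erase _ _ (Finset.mem_range.2 hi)]
  apply hQ.mul _ hx
  apply Subring.prod_mem
  intro l hl
  exact (C.x_mem' (Finset.mem_range.1 (Finset.mem_of_mem_erase hl)).le).1

/-- Elements of `A_j` are fractions of elements of `A_l` with denominators outside `Q`. -/
lemma exists_denom {l : ℕ} (j : ℕ) (hlj : l ≤ j) : ∀ Q : Set K, IsPr (C.A j) Q → (∀ i, l ≤ i → i < j → C.x i ∉ Q) →
    ∀ z ∈ (C.A j).toSubring, ∃ s ∈ (C.A l).toSubring, s ∉ Q ∧ s * z ∈ (C.A l).toSubring := by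
  induction j, hlj using Nat.le_induction with
  | base =>
    intro Q hQ _ z hz
    exact ⟨1, (C.A l).toSubring.one_mem, hQ.one_notMem, by rwa [one_mul]⟩
  | succ j hlj ih =>
    intro Q hQ hx z hz
    obtain ⟨n, v, hv, hvm, h1, h2⟩ := C.gen j z hz
    have hQ' := hQ.inter (C.le j)
    have hx' : ∀ i, l ≤ i → i < j → C.x i ∉ Q ∩ (C.A j).toSubring := fun i hi hij h =>
      hx i hi (Nat.lt_succ_of_lt hij) h.1
    obtain ⟨s1, hs1, hs1', hs1''⟩ := ih _ hQ' hx' _ h1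
    obtain ⟨s2, hs2, hs2', hs2''⟩ := ih _ hQ' hx' _ h2
    have hs1Q : s1 ∉ Q := fun h => hs1' ⟨h, (C.mono hlj).1 hs1⟩
    have hs2Q : s2 ∉ Q := fun h => hs2' ⟨h, (C.mono hlj).1 hs2⟩
    have hlj' := (C.mono (Nat.le_succ_of_le hlj)).1
    have hxj : C.x j ∈ (C.A (j + 1)).toSubring := (C.x_mem' (Nat.le_succ j)).1
    have hxv : C.x j ^ n * v ∉ Q := hQ.mul_notMem (Subring.pow_mem _ hxj n) hv
      (hQ.pow_notMem hxj (hx j hlj (Nat.lt_succ_self j)) n) (hQ.notMem hvm)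
    refine ⟨s2 * (s1 * (C.x j ^ n * v)), Subring.mul_mem _ hs2 hs1'', ?_, ?_⟩
    · exact hQ.mul_notMem (hlj' hs2) (hlj' hs1'') hs2Q
        (hQ.mul_notMem (hlj' hs1) ((C.le j).1 h1) hs1Q hxv)
    · have : s2 * (s1 * (C.x j ^ n * v)) * z = s1 * (s2 * (C.x j ^ n * v * z)) := by ring
      rw [this]
      exact Subring.mul_mem _ hs1 hs2''

/-- `Q` is a prime of `A_j` containing `t`, with no `x_i`, over the prime `P` of `A_0`. -/
structure Surv (t : K) (P : Set K) (j : ℕ) (Q : Set K) : Prop where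
  isPr : IsPr (C.A j) Q
  mem : t ∈ Q
  x_notMem : ∀ i, i < j → C.x i ∉ Q
  inter : Q ∩ (C.A 0).toSubring = P

variable {C} in
lemma Surv.of_le {t : K} (ht : t ∈ (C.A 0).toSubring) {P : Set K} {i j : ℕ} (hij : i ≤ j) {Q : Set K} (h : C.Surv t P j Q) :
    C.Surv t P i (Q ∩ (C.A i).toSubring) where
  isPr := h.isPr.inter (C.mono hij)
  mem := ⟨h.mem, (C.mono (Nat.zero_le i)).1 ht⟩
  x_notMem l hl hx := h.x_notMem l (hl.trans_le hij) hx.1
  inter := by
    rw [← h.inter, Set.inter_assoc]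
    congr 1
    exact Set.inter_eq_right.2 (C.mono (Nat.zero_le i)).1

lemma exists_forever {t : K} (ht : t ∈ (C.A 0).toSubring) (ht0 : t ≠ 0) (hbad : ∀ j, ¬ SK (C.A j) t) :
    ∃ P : Set K, ∀ j, ∃ Q, C.Surv t P j Q := by
  let t0 : (C.A 0).toSubring := ⟨t, ht⟩
  let S0 : Set (Set K) := (fun q : Ideal (C.A 0).toSubring => Subtype.val '' (q : Set (C.A 0).toSubring)) ''
    (Ideal.span {t0}).minimalPrimes
  have hfin : S0.Finite := (Ideal.finite_minimalPrimes_of_isNoetherianRing _ _).image _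
  have hstep : ∀ j, 1 ≤ j → ∃ P ∈ S0, ∃ Q, C.Surv t P j Q := by
    intro j hj
    by_contra hno
    apply hbad j
    apply SK.of_forall (C.dim j) ((C.mono (Nat.zero_le j)).1 ht) (C.sk_e j)
    intro Q hQ htQ
    by_contra heQ
    have hx : ∀ i, i < j → C.x i ∉ Q := fun i hi h => heQ (C.e_mem_of_mem hQ hi h)
    apply hno
    have hQ0 := hQ.inter (C.mono (Nat.zero_le j))
    have := hQ0.ideal_isPrime
    refine ⟨Q ∩ (C.A 0).toSubring, ⟨hQ0.ideal, ?_, ?_⟩, Q, hQ, htQ, hx, rfl⟩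
    · apply mem_minimalPrimes (C.dim 0)
      · intro h
        exact ht0 (congrArg Subtype.val h)
      · exact ⟨htQ, ht⟩
      · intro h
        obtain ⟨h1, h2⟩ := C.x_mem 0
        rw [← h] at h2
        exact hx 0 hj h2.1
    · ext z
      constructor
      · rintro ⟨w, hw, rfl⟩
        exact hw
      · intro hz
        exact ⟨⟨z, hz.2⟩, hz, rfl⟩
  by_contra hno
  push Not at hno
  choose J hJ using hno
  obtain ⟨N, hN⟩ := (hfin.image J).bddAbove
  obtain ⟨P, hP, Q, hQ⟩ := hstep (N + 1) (by omega)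
  have h1 : J P ≤ N + 1 := (hN ⟨P, hP, rfl⟩).trans (Nat.le_succ N)
  exact hJ P _ (hQ.of_le ht h1)

/-- Primes of `A_j` are determined by their intersection with `A_l`. -/
lemma eq_of_inter_eq {l j : ℕ} (hlj : l ≤ j) {Q Q' : Set K} (hQ : IsPr (C.A j) Q) (hQ' : IsPr (C.A j) Q')
    (hx : ∀ i, l ≤ i → i < j → C.x i ∉ Q)
    (h : Q ∩ (C.A l).toSubring = Q' ∩ (C.A l).toSubring) : Q = Q' := by
  have key : ∀ z ∈ (C.A j).toSubring, (z ∈ Q ↔ z ∈ Q') := by
    intro z hz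
    obtain ⟨s, hs, hsQ, hsz⟩ := C.exists_denom j hlj Q hQ hx z hz
    have hlj' := (C.mono hlj).1
    have hsQ' : s ∉ Q' := by
      intro hs'
      have : s ∈ Q' ∩ (C.A l).toSubring := ⟨hs', hs⟩
      rw [← h] at this
      exact hsQ this.1
    constructor
    · intro hzQ
      have h1 : s * z ∈ Q ∩ (C.A l).toSubring := ⟨by rw [mul_comm]; exact hQ.mul _ hzQ _ (hlj' hs), hsz⟩
      rw [h] at h1
      exact (hQ'.prime _ (hlj' hs) _ hz h1.1).resolve_left hsQ'
    · intro hzQ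
      have h1 : s * z ∈ Q' ∩ (C.A l).toSubring := ⟨by rw [mul_comm]; exact hQ'.mul _ hzQ _ (hlj' hs), hsz⟩
      rw [← h] at h1
      exact (hQ.prime _ (hlj' hs) _ hz h1.1).resolve_left hsQ
  ext z
  constructor
  · intro hz
    exact (key z (mx_sub (hQ.sub z hz))).1 hz
  · intro hz
    exact (key z (mx_sub (hQ'.sub z hz))).2 hz

/-- The residue field of the valuation ring attached to the surviving prime. -/
lemma exists_residue {t : K} {P : Set K} {Q : ℕ → Set K} (hQ : ∀ j, C.Surv t P j (Q j)) :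
    ∃ (κ : Type u) (_ : Field κ) (D : Subring K) (γ : D →+* κ) (hD : ∀ j, (C.A j).toSubring ≤ D),
      (∀ j, ∀ z (hz : z ∈ (C.A j).toSubring), γ ⟨z, hD j hz⟩ = 0 ↔ z ∈ Q j) ∧
      ∀ c : κ, ∃ (a : K) (ha : a ∈ (C.A 0).toSubring) (s : K) (hs : s ∈ (C.A 0).toSubring),
        γ ⟨s, hD 0 hs⟩ ≠ 0 ∧ c * γ ⟨s, hD 0 hs⟩ = γ ⟨a, hD 0 ha⟩ := by
  have hP : IsPr (C.A 0) P := by
    have := (hQ 0).isPr.inter le_rfl
    rwa [(hQ 0).inter] at this
  let p := hP.ideal
  have hp : p.IsPrime := hP.ideal_isPrime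
  let D := LocalSubring.ofPrime (C.A 0).toSubring p
  have hA0D : (C.A 0).toSubring ≤ D.toSubring := LocalSubring.le_ofPrime _ _
  have hmem : ∀ a ∈ (C.A 0).toSubring, (a ∈ mx D ↔ a ∈ P) := by
    intro a ha
    have h1 : (maximalIdeal D.toSubring).comap (algebraMap _ D.toSubring) = p :=
      IsLocalization.AtPrime.under_maximalIdeal D.toSubring p
    have h2 : (⟨a, ha⟩ : (C.A 0).toSubring) ∈ (maximalIdeal D.toSubring).comap (algebraMap _ D.toSubring) ↔
      (⟨a, ha⟩ : (C.A 0).toSubring) ∈ p := by rw [h1]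
    constructor
    · rintro ⟨h3, h4⟩
      exact h2.1 h4
    · intro h3
      exact ⟨hA0D ha, h2.2 h3⟩
  have hfrac : ∀ d ∈ D.toSubring, ∃ a ∈ (C.A 0).toSubring, ∃ s ∈ (C.A 0).toSubring, s ∉ P ∧ d * s = a := by
    intro d hd
    obtain ⟨⟨a, s⟩, h⟩ := IsLocalization.surj (M := p.primeCompl) (⟨d, hd⟩ : D.toSubring)
    exact ⟨a, a.2, s, s.1.2, fun h' => s.2 h', congrArg Subtype.val h⟩
  have hdenom : ∀ j, ∀ z ∈ (C.A j).toSubring, ∃ s ∈ (C.A 0).toSubring, s ∉ Q j ∧ s * z ∈ (C.A 0).toSubring :=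
    fun j z hz => C.exists_denom j (Nat.zero_le j) _ (hQ j).isPr (fun i _ hi => (hQ j).x_notMem i hi) z hz
  have hPQ : ∀ j, ∀ z ∈ (C.A 0).toSubring, (z ∈ P ↔ z ∈ Q j) := by
    intro j z hz
    rw [← (hQ j).inter]
    exact ⟨fun h => h.1, fun h => ⟨h, hz⟩⟩
  have hD : ∀ j, (C.A j).toSubring ≤ D.toSubring := by
    intro j z hz
    obtain ⟨s, hs, hsQ, hsz⟩ := hdenom j z hz
    have hsP : s ∉ mx D := by rw [hmem s hs, hPQ j s hs]; exact hsQ
    obtain ⟨h1, h2⟩ := inv_mem (hA0D hs) hsP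
    have : z = s⁻¹ * (s * z) := by field_simp
    rw [this]
    exact D.toSubring.mul_mem h1 (hA0D hsz)
  have hγ : ∀ z (hz : z ∈ D.toSubring), residue D.toSubring ⟨z, hz⟩ = 0 ↔ z ∈ mx D := by
    intro z hz
    rw [residue_eq_zero_iff]
    exact ⟨fun h => ⟨hz, h⟩, fun h => h.2⟩
  refine ⟨ResidueField D.toSubring, inferInstance, D.toSubring, residue D.toSubring, hD, ?_, ?_⟩
  · intro j z hz
    rw [hγ]
    obtain ⟨s, hs, hsQ, hsz⟩ := hdenom j z hz
    have hsP : s ∉ mx D := by rw [hmem s hs, hPQ j s hs]; exact hsQ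
    have hj := (C.mono (Nat.zero_le j)).1
    constructor
    · intro h
      have h1 : s * z ∈ mx D := by rw [mul_comm]; exact mul_mem_mx h (hA0D hs)
      rw [hmem _ hsz, hPQ j _ hsz] at h1
      exact ((hQ j).isPr.prime _ (hj hs) _ hz h1).resolve_left hsQ
    · intro h
      have h1 : s * z ∈ Q j := by rw [mul_comm]; exact (hQ j).isPr.mul _ h _ (hj hs)
      rw [← hPQ j _ hsz, ← hmem _ hsz] at h1
      obtain ⟨h2, h3⟩ := inv_mem (hA0D hs) hsP
      have : z = (s * z) * s⁻¹ := by field_simp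
      rw [this]
      exact mul_mem_mx h1 h2
  · intro c
    obtain ⟨d, rfl⟩ := residue_surjective c
    obtain ⟨a, ha, s, hs, hsP, h⟩ := hfrac d d.2
    refine ⟨a, ha, s, hs, ?_, ?_⟩
    · rw [Ne, hγ, hmem s hs]
      exact hsP
    · rw [← map_mul]
      congr 1
      exact Subtype.ext h

end QChain

/-- Finiteness of the integral closure in any fraction field, for an isomorphic ring. -/
lemma finite_integralClosure {R S κ : Type u} [CommRing R] [IsDomain R] [CommRing S] [Field κ] [Algebra S κ]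
    (e : R ≃+* S) [IsFractionRing S κ] (h : Module.Finite R (integralClosure R (FractionRing R))) :
    Module.Finite S (integralClosure S κ) := by
  let i1 : Algebra R κ := ((algebraMap S κ).comp (e : R →+* S)).toAlgebra
  have hfr : IsFractionRing R κ := by
    have h1 := (IsFractionRing.isFractionRing_iff_of_base_ringEquiv (R := S) κ e.symm).1 inferInstance
    have e1 : ((algebraMap S κ).comp e.symm.symm.toRingHom).toAlgebra = i1 := rfl
    rw [← e1]
    exact h1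
  have h2 : Module.Finite R (integralClosure R κ) :=
    Module.Finite.equiv (FractionRing.algEquiv R κ).mapIntegralClosure.toLinearEquiv
  have hint : ∀ z : κ, IsIntegral R z ↔ IsIntegral S z := by
    intro z
    constructor
    · intro hz
      exact hz.map_of_comp_eq (e : R →+* S) (RingHom.id κ) rfl
    · intro hz
      refine hz.map_of_comp_eq (e.symm : S →+* R) (RingHom.id κ) ?_
      ext s
      change algebraMap S κ (e (e.symm s)) = algebraMap S κ s
      rw [e.apply_symm_apply]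
  let e2 : integralClosure R κ ≃+* integralClosure S κ :=
    { toFun := fun z => ⟨z.1, (hint z.1).1 z.2⟩
      invFun := fun z => ⟨z.1, (hint z.1).2 z.2⟩
      left_inv := fun _ => rfl
      right_inv := fun _ => rfl
      map_mul' := fun _ _ => rfl
      map_add' := fun _ _ => rfl }
  exact Module.Finite.of_equiv_equiv e e2 (by ext r; rfl)

lemma le_of_mx {R S : LocalSubring K} (h : R.toSubring ≤ S.toSubring) (h' : ∀ z ∈ mx R, z ∈ mx S) : R ≤ S := by
  refine ⟨h, ⟨?_⟩⟩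
  rintro ⟨z, hz⟩ hu
  by_contra hnu
  obtain ⟨h1, h2⟩ := h' z ⟨hz, (mem_maximalIdeal _).2 hnu⟩
  exact (mem_nonunits_iff.1 ((mem_maximalIdeal _).1 h2)) hu

namespace QChain

variable (C : QChain K)

/-- The images of the `A_j` in the residue field. -/
noncomputable def O {κ : Type u} [Field κ] {D : Subring K} (γ : D →+* κ) (hD : ∀ j, (C.A j).toSubring ≤ D) (j : ℕ) :
    LocalSubring κ :=
  @LocalSubring.mk κ _ (γ.comp (Subring.inclusion (hD j))).range
    (IsLocalRing.of_surjective' (γ.comp (Subring.inclusion (hD j))).rangeRestrict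
      (γ.comp (Subring.inclusion (hD j))).rangeRestrict_surjective)

section

variable {κ : Type u} [Field κ] {D : Subring K} {γ : D →+* κ} {hD : ∀ j, (C.A j).toSubring ≤ D}

lemma mem_O {j : ℕ} {c : κ} : c ∈ (C.O γ hD j).toSubring ↔ ∃ (z : K) (hz : z ∈ (C.A j).toSubring), γ ⟨z, hD j hz⟩ = c := by
  constructor
  · rintro ⟨z, hz⟩
    exact ⟨z.1, z.2, hz⟩
  · rintro ⟨z, hz, h⟩
    exact ⟨⟨z, hz⟩, h⟩

lemma mem_mx_O {Q : ℕ → Set K} (hQ : ∀ j, IsPr (C.A j) (Q j))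
    (hker : ∀ j, ∀ z (hz : z ∈ (C.A j).toSubring), γ ⟨z, hD j hz⟩ = 0 ↔ z ∈ Q j)
    {j : ℕ} {z : K} (hz : z ∈ (C.A j).toSubring) : γ ⟨z, hD j hz⟩ ∈ mx (C.O γ hD j) ↔ z ∈ mx (C.A j) := by
  constructor
  · intro h
    by_contra hn
    obtain ⟨h1, h2⟩ := inv_mem hz hn
    refine notMem_mx (R := C.O γ hD j) (w := γ ⟨z⁻¹, hD j h1⟩) (C.mem_O.2 ⟨_, h1, rfl⟩) ?_ h
    rw [← map_mul, ← map_one γ]
    congr 1
    exact Subtype.ext (mul_inv_cancel₀ h2)
  · intro h
    by_contra hn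
    obtain ⟨h1, h2⟩ := inv_mem (C.mem_O.2 ⟨z, hz, rfl⟩) hn
    obtain ⟨w, hw, hw'⟩ := C.mem_O.1 h1
    have h3 : γ ⟨z * w - 1, hD j (Subring.sub_mem _ (Subring.mul_mem _ hz hw) (Subring.one_mem _))⟩ = 0 := by
      have e : (⟨z * w - 1, hD j (Subring.sub_mem _ (Subring.mul_mem _ hz hw) (Subring.one_mem _))⟩ : D) =
        ⟨z, hD j hz⟩ * ⟨w, hD j hw⟩ - 1 := rfl
      rw [e, map_sub, map_mul, hw', map_one, mul_inv_cancel₀ h2, sub_self]
    have h3' := (hker j _ (Subring.sub_mem _ (Subring.mul_mem _ hz hw) (Subring.one_mem _))).1 h3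
    obtain ⟨h4, h5⟩ := (hQ j).sub _ h3'
    obtain ⟨h6, h7⟩ := mul_mem_mx h hw
    have h8 := Ideal.sub_mem _ h7 h5
    have h9 : (⟨z * w, h6⟩ : (C.A j).toSubring) - ⟨z * w - 1, h4⟩ = 1 := Subtype.ext (by
      change z * w - (z * w - 1) = 1
      ring)
    rw [h9] at h8
    exact (Ideal.ne_top_iff_one _).1 (maximalIdeal.isMaximal _).ne_top h8

lemma O_mono {Q : ℕ → Set K} (hQ : ∀ j, IsPr (C.A j) (Q j))
    (hker : ∀ j, ∀ z (hz : z ∈ (C.A j).toSubring), γ ⟨z, hD j hz⟩ = 0 ↔ z ∈ Q j) : Monotone (C.O γ hD) := by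
  apply monotone_nat_of_le_succ
  intro j
  apply le_of_mx
  · intro c hc
    obtain ⟨z, hz, rfl⟩ := C.mem_O.1 hc
    exact C.mem_O.2 ⟨z, (C.le j).1 hz, rfl⟩
  · intro c hc
    obtain ⟨z, hz, rfl⟩ := C.mem_O.1 hc.1
    rw [C.mem_mx_O hQ hker hz] at hc
    exact (C.mem_mx_O hQ hker ((C.le j).1 hz)).2 (mx_mono (C.le j) hc)

/-- The images of the `A_j` in the residue field are eventually a discrete valuation ring. -/
lemma exists_dvr {Q : ℕ → Set K} (hQ : ∀ j, IsPr (C.A j) (Q j)) (hx : ∀ i j, i < j → C.x i ∉ Q j)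
    (hker : ∀ j, ∀ z (hz : z ∈ (C.A j).toSubring), γ ⟨z, hD j hz⟩ = 0 ↔ z ∈ Q j)
    (hfrac : ∀ c : κ, ∃ (a : K) (ha : a ∈ (C.A 0).toSubring) (s : K) (hs : s ∈ (C.A 0).toSubring),
        γ ⟨s, hD 0 hs⟩ ≠ 0 ∧ c * γ ⟨s, hD 0 hs⟩ = γ ⟨a, hD 0 ha⟩)
    {t : K} (ht : t ∈ (C.A 0).toSubring) (ht0 : t ≠ 0) (htQ : t ∈ Q 0)
    (hN : ∀ (p : Ideal (C.A 0).toSubring) [p.IsPrime], (⟨t, ht⟩ : (C.A 0).toSubring) ∈ p →
      p ≠ maximalIdeal (C.A 0).toSubring →
      Module.Finite ((C.A 0).toSubring ⧸ p) (integralClosure ((C.A 0).toSubring ⧸ p)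
        (FractionRing ((C.A 0).toSubring ⧸ p)))) :
    ∃ (V : ValuationSubring κ) (_ : IsDiscreteValuationRing V) (j0 : ℕ),
      (∀ i, C.O γ hD i ≤ V.toLocalSubring) ∧ ∀ j, j0 ≤ j → C.O γ hD j = V.toLocalSubring := by
  have hxj : ∀ j, C.x j ∈ (C.A j).toSubring := fun j => (C.x_mem j).1
  have hx0 : ∀ j, γ ⟨C.x j, hD j (hxj j)⟩ ≠ 0 := by
    intro j h
    have h1 : C.x j ∈ (C.A (j + 1)).toSubring := (C.x_mem' (Nat.le_succ j)).1
    exact hx j (j + 1) (Nat.lt_succ_self j) ((hker (j + 1) _ h1).1 h)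
  let g : (C.A 0).toSubring →+* κ := γ.comp (Subring.inclusion (hD 0))
  have hO0 : (C.O γ hD 0).toSubring = g.range := rfl
  let p := RingHom.ker g
  have hp : p.IsPrime := RingHom.ker_isPrime g
  have hpt : (⟨t, ht⟩ : (C.A 0).toSubring) ∈ p := (hker 0 t ht).2 htQ
  have hpm : p ≠ maximalIdeal (C.A 0).toSubring := by
    intro h
    obtain ⟨h1, h2⟩ := C.x_mem 0
    rw [← h] at h2
    exact hx0 0 h2
  have hpb : p ≠ ⊥ := by
    intro h
    rw [h] at hpt
    exact ht0 (congrArg Subtype.val hpt)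
  obtain ⟨g', hg', hgs⟩ : ∃ g' : (C.A 0).toSubring →+* (C.O γ hD 0).toSubring, (∀ z, (g' z : κ) = g z) ∧
      Function.Surjective g' := ⟨g.rangeRestrict, fun _ => rfl, g.rangeRestrict_surjective⟩
  have hnoeth : IsNoetherianRing (C.O γ hD 0).toSubring :=
    isNoetherianRing_of_surjective _ _ g' hgs
  have hdim : Ring.DimensionLEOne (C.O γ hD 0).toSubring := by
    constructor
    intro q hq hqp
    have h1 : (q.comap g').IsPrime := Ideal.IsPrime.comap _
    have h2 : p ≤ q.comap g' := by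
      intro z hz
      rw [Ideal.mem_comap]
      have : g' z = 0 := Subtype.ext ((hg' z).trans hz)
      rw [this]
      exact q.zero_mem
    have h3 : q.comap g' = maximalIdeal (C.A 0).toSubring := by
      by_contra h
      have h4 := eq_of_le (C.dim 0) hpb h2 h
      apply hq
      rw [eq_bot_iff]
      intro c hc
      obtain ⟨z, rfl⟩ := hgs c
      have h5 : z ∈ q.comap g' := hc
      rw [← h4] at h5
      exact Subtype.ext ((hg' z).trans h5)
    have h6 : (q.comap g').IsMaximal := by rw [h3]; infer_instance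
    have h7 := Ideal.map_eq_top_or_isMaximal_of_surjective g' hgs h6
    rw [Ideal.map_comap_of_surjective _ hgs] at h7
    exact h7.resolve_left hqp.ne_top
  have hfr : IsFractionRing (C.O γ hD 0).toSubring κ := by
    refine ⟨?_, ?_, ?_⟩
    · intro y
      apply Ne.isUnit
      intro h
      exact nonZeroDivisors.ne_zero y.2 (Subtype.ext h)
    · intro c
      obtain ⟨a, ha, s, hs, hs0, h⟩ := hfrac c
      have hs' : γ ⟨s, hD 0 hs⟩ ∈ (C.O γ hD 0).toSubring := C.mem_O.2 ⟨s, hs, rfl⟩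
      have ha' : γ ⟨a, hD 0 ha⟩ ∈ (C.O γ hD 0).toSubring := C.mem_O.2 ⟨a, ha, rfl⟩
      refine ⟨⟨⟨_, ha'⟩, ⟨⟨_, hs'⟩, mem_nonZeroDivisors_of_ne_zero ?_⟩⟩, h⟩
      intro h0
      exact hs0 (congrArg Subtype.val h0)
    · intro a b hab
      exact ⟨1, by rw [Subtype.ext (show (a : κ) = b from hab)]⟩
  have hfin : Module.Finite (C.O γ hD 0).toSubring (integralClosure (C.O γ hD 0).toSubring κ) := by
    have e : ((C.A 0).toSubring ⧸ p) ≃+* (C.O γ hD 0).toSubring := RingHom.quotientKerEquivRange g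
    exact finite_integralClosure e (hN p hpt hpm)
  apply ValChain.exists_dvr (C.O γ hD) (fun j => γ ⟨C.x j, hD j (hxj j)⟩) (C.O_mono hQ hker)
  · intro j
    exact (C.mem_mx_O hQ hker (hxj j)).2 (C.x_mem j)
  · exact hx0
  · intro j y hy
    obtain ⟨z, hz, rfl⟩ := C.mem_O.1 hy.1
    rw [C.mem_mx_O hQ hker hz] at hy
    obtain ⟨s, hs, rfl⟩ := C.dvd j z hy
    refine ⟨γ ⟨s, hD (j + 1) hs⟩, C.mem_O.2 ⟨s, hs, rfl⟩, ?_⟩
    rw [← map_mul]
    rfl

end

end QChain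

end Groth.Agent.Sga7.H150.Chain
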