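import Groth.Agent.Sga7.H150.Acc
import Groth.Agent.Sga7.H592.SncFinM
import Groth.Agent.Sga7.H523.FinNorm
import Groth.Agent.Models.RMStep

/-!
# Embedded resolution of the closed fibre: the global induction

Blowing up non strict-normal-crossings points of a regular proper model, one at a time.
-/

set_option autoImplicit false
universe u

open CategoryTheory CategoryTheory.Limits AlgebraicGeometry IsLocalRing

namespace Groth.Agent.Sga7.H150.Global

open Groth.Agent.Sga7.H744.Defs Groth.Agent.Models Groth.Agent.Sga7.H592.SncFinM Groth.Agent.Sga7.H150.Quad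

/-- A quadratic transform composed with isomorphisms. -/
lemma IsQuad.comp_equiv {A A' B : Type*} [CommRing A] [IsLocalRing A] [CommRing A'] [IsLocalRing A'] [CommRing B]
    [IsLocalRing B] {φ : A →+* B} (h : IsQuad φ) (e : A' ≃+* A) : IsQuad (φ.comp (e : A' →+* A)) := by
  obtain ⟨h1, h2, x, hx, hmx, hfr⟩ := h
  have hm : (maximalIdeal A').map (e : A' →+* A) = maximalIdeal A :=
    map_maximalIdeal_of_surjective _ e.surjective
  have hxe : φ.comp (e : A' →+* A) (e.symm x) = φ x := by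
    change φ (e (e.symm x)) = φ x
    rw [e.apply_symm_apply]
  have hm' : (maximalIdeal A).map (e.symm : A →+* A') = maximalIdeal A' :=
    map_maximalIdeal_of_surjective _ e.symm.surjective
  have hpow : ∀ n, ∀ a ∈ maximalIdeal A ^ n, e.symm a ∈ maximalIdeal A' ^ n := by
    intro n a ha
    rw [← hm', ← Ideal.map_pow]
    exact Ideal.mem_map_of_mem (e.symm : A →+* A') ha
  have hφe : ∀ a, φ.comp (e : A' →+* A) (e.symm a) = φ a := by
    intro a
    change φ (e (e.symm a)) = φ a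
    rw [e.apply_symm_apply]
  refine ⟨h1.comp e.injective, ?_, e.symm x, ?_, ?_, ?_⟩
  · have : IsLocalHom (e : A' →+* A) := ⟨fun a ha => by
      have := ha.map e.symm
      change IsUnit (e.symm (e a)) at this
      rwa [e.symm_apply_apply] at this⟩
    exact RingHom.isLocalHom_comp _ _
  · rw [← hm']
    exact Ideal.mem_map_of_mem _ hx
  · rw [← Ideal.map_map, hm, hmx, hxe]
  · intro z
    obtain ⟨n, a, ha, a1, ha1, s, hs, e1, e2⟩ := hfr z
    refine ⟨n, e.symm a, hpow n a ha, e.symm a1, hpow n a1 ha1, s, hs, ?_, ?_⟩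
    · rw [hφe, hxe, e1]
    · rw [hφe, hxe, e2]

variable {R : Type u} [CommRing R] [IsDomain R] [IsDiscreteValuationRing R]
  {C : Scheme.{u}} (f : C ⟶ Spec (CommRingCat.of (FractionRing R)))

/-- `b : X' ⟶ X` is a modification of regular models, an isomorphism outside `T`. -/
structure Modif {X : Scheme.{u}} (p : X ⟶ Spec (CommRingCat.of R)) (T : Set X) {X' : Scheme.{u}} (b : X' ⟶ X) :
    Prop where
  isM : RMStep.IsM f X' (b ≫ p)
  reg : ∀ x', IsRegularLocalRing (X'.presheaf.stalk x')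
  bij : ∀ x, x ∉ T → ∃! x', b x' = x
  iso : ∀ x', b x' ∉ T → IsIso (b.stalkMap x')

variable {f}

omit [IsDomain R] [IsDiscreteValuationRing R] in
lemma Modif.comp {X : Scheme.{u}} {p : X ⟶ Spec (CommRingCat.of R)} {T : Set X} {X1 : Scheme.{u}} {b1 : X1 ⟶ X}
    (h1 : Modif f p T b1) {T1 : Set X1} {X2 : Scheme.{u}} {b2 : X2 ⟶ X1} (h2 : Modif f (b1 ≫ p) T1 b2)
    (h : ∀ x ∈ T1, b1 x ∈ T) : Modif f p T (b2 ≫ b1) where
  isM := by rw [Category.assoc]; exact h2.isM
  reg := h2.reg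
  bij := by
    intro x hx
    obtain ⟨x1, hx1, hu1⟩ := h1.bij x hx
    have hx1T : x1 ∉ T1 := fun hT => hx (hx1 ▸ h x1 hT)
    obtain ⟨x2, hx2, hu2⟩ := h2.bij x1 hx1T
    refine ⟨x2, ?_, ?_⟩
    · change (b2 ≫ b1) x2 = x
      rw [Scheme.Hom.comp_apply, hx2, hx1]
    · intro y hy
      rw [Scheme.Hom.comp_apply] at hy
      exact hu2 y (hu1 (b2 y) hy)
  iso := by
    intro x' hx'
    rw [Scheme.Hom.comp_apply] at hx'
    have i1 := h1.iso (b2 x') hx'
    have i2 := h2.iso x' (fun hT => hx' (h _ hT))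
    rw [Scheme.Hom.stalkMap_comp]
    exact @IsIso.comp_isIso _ _ _ _ _ _ _ i1 i2

omit [IsDomain R] [IsDiscreteValuationRing R] in
lemma stalkElt_comp {X : Scheme.{u}} (p : X ⟶ Spec (CommRingCat.of R)) {X' : Scheme.{u}} (b : X' ⟶ X) (x' : X')
    (r : R) : stalkElt (b ≫ p) x' r = (b.stalkMap x').hom (stalkElt p (b x') r) := by
  simp only [stalkElt, RingHom.comp_apply]
  rw [Scheme.Hom.comp_appTop]
  have := Scheme.Hom.germ_stalkMap b ⊤ x' trivial
  exact (congrArg (fun φ => φ.hom (p.appTop.hom ((Scheme.ΓSpecIso (CommRingCat.of R)).inv.hom r))) this).symm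

lemma mem_bad_iff {X : Scheme.{u}} (p : X ⟶ Spec (CommRingCat.of R)) {X' : Scheme.{u}} (b : X' ⟶ X) (x' : X')
    [IsIso (b.stalkMap x')] (ϖ : R) : x' ∈ bad (b ≫ p) ϖ ↔ b x' ∈ bad p ϖ := by
  have h1 : IsSNCElt (X'.presheaf.stalk x') (stalkElt (b ≫ p) x' ϖ) ↔
      IsSNCElt (X.presheaf.stalk (b x')) (stalkElt p (b x') ϖ) := by
    rw [stalkElt_comp]
    exact (H592.SncAlg.isSNCElt_iff_of_ringEquiv (asIso (b.stalkMap x')).commRingCatIsoToRingEquiv _).symm
  rw [bad, bad, Set.mem_ofPred_eq, Set.mem_ofPred_eq, h1, Scheme.Hom.comp_apply]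

omit [IsDomain R] [IsDiscreteValuationRing R] in
lemma Modif.mono {X : Scheme.{u}} {p : X ⟶ Spec (CommRingCat.of R)} {T T' : Set X} {X' : Scheme.{u}} {b : X' ⟶ X}
    (h : Modif f p T b) (hT : T ⊆ T') : Modif f p T' b where
  isM := h.isM
  reg := h.reg
  bij x hx := h.bij x (fun hxT => hx (hT hxT))
  iso x' hx' := h.iso x' (fun hxT => hx' (hT hxT))

omit [IsDomain R] [IsDiscreteValuationRing R] in
lemma Modif.id {X : Scheme.{u}} {p : X ⟶ Spec (CommRingCat.of R)} (hX : RMStep.IsM f X p)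
    (hreg : ∀ x : X, IsRegularLocalRing (X.presheaf.stalk x)) (T : Set X) : Modif f p T (𝟙 X) where
  isM := by rw [Category.id_comp]; exact hX
  reg := hreg
  bij x _ := ⟨x, rfl, fun y hy => hy⟩
  iso x' _ := inferInstance

variable (f) in
/-- Points with local ring `P` can be resolved. -/
def Sol (ϖ : R) (P : Pt.{u}) : Prop :=
  ∀ (X : Scheme.{u}) (p : X ⟶ Spec (CommRingCat.of R)), RMStep.IsM f X p →
    (∀ x : X, IsRegularLocalRing (X.presheaf.stalk x)) →
    ∀ x ∈ bad p ϖ, ∀ (e : X.presheaf.stalk x ≃+* P.A), e (stalkElt p x ϖ) = P.t →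
      ∃ (X' : Scheme.{u}) (b : X' ⟶ X), Modif f p {x} b ∧ ∀ x', b x' = x → x' ∉ bad (b ≫ p) ϖ

/-- Resolving finitely many points, one after the other. -/
theorem fin_step (ϖ : R) (n : ℕ) : ∀ (X : Scheme.{u}) (p : X ⟶ Spec (CommRingCat.of R)) (_ : RMStep.IsM f X p)
    (_ : ∀ x : X, IsRegularLocalRing (X.presheaf.stalk x)) (T : Set X) (_ : T.Finite) (_ : T.ncard ≤ n)
    (_ : T ⊆ bad p ϖ) (_ : ∀ x ∈ T, ∃ (P : Pt.{u}) (e : X.presheaf.stalk x ≃+* P.A),
      e (stalkElt p x ϖ) = P.t ∧ Sol f ϖ P),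
    ∃ (X' : Scheme.{u}) (b : X' ⟶ X), Modif f p T b ∧ ∀ x', b x' ∈ T → x' ∉ bad (b ≫ p) ϖ := by
  induction n with
  | zero =>
    intro X p hX hreg T hfin hn hTb hS
    rw [Nat.le_zero, Set.ncard_eq_zero hfin] at hn
    refine ⟨X, 𝟙 X, Modif.id hX hreg T, fun x' hx' => ?_⟩
    rw [hn] at hx'
    exact absurd hx' (Set.notMem_empty _)
  | succ n ih =>
    intro X p hX hreg T hfin hn hTb hS
    rcases Set.eq_empty_or_nonempty T with hT | ⟨x, hx⟩
    · refine ⟨X, 𝟙 X, Modif.id hX hreg T, fun x' hx' => ?_⟩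
      rw [hT] at hx'
      exact absurd hx' (Set.notMem_empty _)
    obtain ⟨P, e, he, hSol⟩ := hS x hx
    obtain ⟨X1, b1, h1, hb1⟩ := hSol X p hX hreg x (hTb hx) e he
    let T1 : Set X1 := {x1 | b1 x1 ∈ T ∧ b1 x1 ≠ x}
    have hinj : Set.InjOn b1 T1 := by
      intro y hy z _ hyz
      obtain ⟨w, -, hu⟩ := h1.bij (b1 y) hy.2
      rw [hu y rfl, hu z hyz.symm]
    have hsub : b1 '' T1 ⊆ T \ {x} := by
      rintro _ ⟨x', hx', rfl⟩
      exact ⟨hx'.1, hx'.2⟩
    have hfin1 : T1.Finite := Set.Finite.of_finite_image ((hfin.subset Set.sdiff_subset).subset hsub) hinj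
    have hcard : T1.ncard ≤ n := by
      rw [← Set.InjOn.ncard_image hinj]
      have h1 := Set.ncard_le_ncard hsub (hfin.subset Set.sdiff_subset)
      have h2 := Set.ncard_sdiff_singleton_add_one hx hfin
      omega
    obtain ⟨X2, b2, h2, hb2⟩ := ih X1 (b1 ≫ p) h1.isM h1.reg T1 hfin1 hcard (fun x1 hx1 => by
      have := h1.iso x1 hx1.2
      exact (mem_bad_iff p b1 x1 ϖ).2 (hTb hx1.1)) (fun x1 hx1 => by
      have := h1.iso x1 hx1.2
      obtain ⟨P1, e1, he1, hS1⟩ := hS (b1 x1) hx1.1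
      refine ⟨P1, (asIso (b1.stalkMap x1)).commRingCatIsoToRingEquiv.symm.trans e1, ?_, hS1⟩
      rw [stalkElt_comp, ← he1]
      change e1 ((asIso (b1.stalkMap x1)).commRingCatIsoToRingEquiv.symm
        ((asIso (b1.stalkMap x1)).commRingCatIsoToRingEquiv (stalkElt p (b1 x1) ϖ))) = _
      rw [RingEquiv.symm_apply_apply])
    refine ⟨X2, b2 ≫ b1, (h1.mono (Set.singleton_subset_iff.2 hx)).comp h2 (fun x1 hx1 => hx1.1), ?_⟩
    intro x' hx'
    rw [Category.assoc]
    by_cases hxx : b1 (b2 x') = x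
    · have := h2.iso x' (fun hT => hT.2 hxx)
      rw [mem_bad_iff]
      exact hb1 _ hxx
    · exact hb2 x' ⟨hx', hxx⟩

/-- The blow-up of a closed point with regular local ring of dimension two. -/
def QuadBlow : Prop :=
  ∀ (X : Scheme.{u}) [IsLocallyNoetherian X] (x : X) (_ : IsClosed ({x} : Set X))
    (_ : IsRegularLocalRing (X.presheaf.stalk x)) (_ : ringKrullDim (X.presheaf.stalk x) = 2),
    ∃ (X' : Scheme.{u}) (b : X' ⟶ X) (𝓘 : X.IdealSheafData), BlowUp.IsBlowUp b 𝓘 ∧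
      BlowUp.IsFiniteTypeIdeal 𝓘 ∧ ((𝓘.support : Set X) ⊆ {x}) ∧
      ∀ x' : X', b x' = x → IsRegularLocalRing (X'.presheaf.stalk x') ∧ IsQuad (b.stalkMap x').hom

omit [IsDomain R] [IsDiscreteValuationRing R] in
lemma exists_equiv_of_eq {X : Scheme.{u}} (p : X ⟶ Spec (CommRingCat.of R)) {x y : X} (h : y = x) (ϖ : R) {A : Type u}
    [CommRing A] (e : X.presheaf.stalk x ≃+* A) : ∃ e' : X.presheaf.stalk y ≃+* A,
      e' (stalkElt p y ϖ) = e (stalkElt p x ϖ) := by
  subst h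
  exact ⟨e, rfl⟩

omit [IsDiscreteValuationRing R] in
lemma stalkElt_ne_zero {X : Scheme.{u}} (p : X ⟶ Spec (CommRingCat.of R)) [Flat p] (x : X) {ϖ : R} (h : ϖ ≠ 0) :
    stalkElt p x ϖ ≠ 0 := by
  intro h0
  obtain ⟨U, hU, hxU⟩ : ∃ U : X.Opens, IsAffineOpen U ∧ x ∈ U := by
    obtain ⟨_, ⟨U, hU, rfl⟩, hxU, -⟩ :=
      X.isBasis_affineOpens.exists_subset_of_mem_open (Set.mem_univ x) isOpen_univ
    exact ⟨U, hU, hxU⟩
  let _ : Algebra Γ(X, U) (X.presheaf.stalk x) := X.presheaf.algebra_section_stalk ⟨x, hxU⟩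
  have hloc := hU.isLocalization_stalk ⟨x, hxU⟩
  have hf1 : (H592.SncFin.secMap p U).Flat := H592.SncFin.secMap_flat p U hU
  have hf2 : (algebraMap Γ(X, U) (X.presheaf.stalk x)).Flat :=
    IsLocalization.flat (X.presheaf.stalk x) (hU.primeIdealOf ⟨x, hxU⟩).asIdeal.primeCompl
  have hf3 : ((algebraMap Γ(X, U) (X.presheaf.stalk x)).comp (H592.SncFin.secMap p U)).Flat :=
    RingHom.Flat.comp hf1 hf2
  have hf4 : (stalkElt p x).Flat := by
    have : (algebraMap Γ(X, U) (X.presheaf.stalk x)).comp (H592.SncFin.secMap p U) = stalkElt p x := by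
      ext r
      exact H592.SncFin.germ_secMap p U x hxU r
    rwa [this] at hf3
  let _ := (stalkElt p x).toAlgebra
  have hfl : Module.Flat R (X.presheaf.stalk x) := hf4
  have h1 : IsSMulRegular R ϖ := by
    rw [isSMulRegular_iff_right_eq_zero_of_smul]
    intro y hy
    exact (mul_eq_zero.mp hy).resolve_left h
  have h2 : IsSMulRegular (X.presheaf.stalk x) (algebraMap R (X.presheaf.stalk x) ϖ) := h1.of_flat
  have h3 : (algebraMap R (X.presheaf.stalk x) ϖ) = 0 := h0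
  rw [h3, isSMulRegular_iff_right_eq_zero_of_smul] at h2
  exact one_ne_zero (h2 1 (zero_smul _ _))

theorem sol_of_acc (hQ : QuadBlow.{u}) [Nonempty C] [Flat f] (hdim : ∀ c : C, ringKrullDim (C.presheaf.stalk c) ≤ 1)
    (ϖ : R) (hϖ : Irreducible ϖ) (P : Pt.{u}) (hP : Acc Rel P) : Sol f ϖ P := by
  induction hP with
  | intro P _ ih =>
    intro X p hX hreg x hx e he
    have hprop := hX.proper
    have hflat := hX.flat
    have hln : IsLocallyNoetherian X := LocallyOfFiniteType.isLocallyNoetherian p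
    obtain ⟨hxc, hdim2⟩ := of_mem_bad (fun x _ => hreg x) (RMSing.ringKrullDim_stalk_le_two f hX hdim) ϖ hϖ x hx
    obtain ⟨X1, b1, 𝓘, hb, hft, hsupp, hreg1⟩ := hQ X x hxc (hreg x) hdim2
    have hX1 := hX.blowUp f x hxc hx.1 𝓘 hft hsupp b1 hb
    let U : X.Opens := ⟨{x}ᶜ, hxc.isOpen_compl⟩
    have hU : IsIso (b1 ∣_ U) := by
      apply Groth.Agent.Divis.BlowUpFormal.isIso_morphismRestrict_compl_support hb
      exact Set.disjoint_left.2 fun z hz hz' => hz (hsupp hz')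
    have hreg1' : ∀ x1 : X1, IsRegularLocalRing (X1.presheaf.stalk x1) := by
      intro x1
      by_cases hx1 : b1 x1 = x
      · exact (hreg1 x1 hx1).1
      · have := Groth.Agent.Dix.ContractSurf.isIso_stalkMap b1 U x1 hx1
        have := hreg (b1 x1)
        exact IsRegularLocalRing.of_ringEquiv (asIso (b1.stalkMap x1)).commRingCatIsoToRingEquiv
    have hmod : Modif f p {x} b1 := by
      refine ⟨hX1, hreg1', ?_, ?_⟩
      · intro y hy
        have hyU : y ∈ U := hy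
        obtain ⟨z, hz⟩ := (b1 ∣_ U).surjective ⟨y, hyU⟩
        have hz' : b1 z.1 = y := by
          have := congrArg Subtype.val hz
          rwa [morphismRestrict_base_coe] at this
        refine ⟨z.1, hz', ?_⟩
        intro w hw
        have hwU : b1 w ∈ U := by rw [hw]; exact hyU
        have h1 : (b1 ∣_ U) ⟨w, hwU⟩ = (b1 ∣_ U) z := by
          apply Subtype.ext
          rw [morphismRestrict_base_coe, morphismRestrict_base_coe, hz']
          exact hw
        exact congrArg Subtype.val ((b1 ∣_ U).isOpenEmbedding.injective h1)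
      · intro x' hx'
        exact Groth.Agent.Dix.ContractSurf.isIso_stalkMap b1 U x' hx'
    have hprop1 := hX1.proper
    have hflat1 := hX1.flat
    let T : Set X1 := {x1 | x1 ∈ bad (b1 ≫ p) ϖ ∧ b1 x1 = x}
    have hTfin : T.Finite := (finite_not_snc_isM f hX1 hreg1' hdim ϖ hϖ).subset (fun x1 hx1 => hx1.1)
    obtain ⟨X2, b2, h2, hb2⟩ := fin_step ϖ T.ncard X1 (b1 ≫ p) hX1 hreg1' T hTfin le_rfl (fun x1 hx1 => hx1.1)
      (fun x1 hx1 => by
        obtain ⟨-, hdim1⟩ := of_mem_bad (fun x _ => hreg1' x) (RMSing.ringKrullDim_stalk_le_two f hX1 hdim) ϖ hϖ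
          x1 hx1.1
        have hr1 := hreg1' x1
        let P1 : Pt.{u} := ⟨X1.presheaf.stalk x1, hdim1, stalkElt (b1 ≫ p) x1 ϖ,
          stalkElt_ne_zero (b1 ≫ p) x1 hϖ.ne_zero⟩
        refine ⟨P1, RingEquiv.refl _, rfl, ih P1 ⟨hx1.1.2, ?_, ?_⟩⟩
        · intro hs
          apply hx.2
          rw [← he] at hs
          exact (H592.SncAlg.isSNCElt_iff_of_ringEquiv e _).2 hs
        · obtain ⟨e', he'⟩ := exists_equiv_of_eq p hx1.2 ϖ e
          have hr : IsLocalRing (X.presheaf.stalk (b1 x1)) := inferInstance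
          refine ⟨(b1.stalkMap x1).hom.comp (e'.symm : P.A →+* X.presheaf.stalk (b1 x1)), ?_, ?_⟩
          · exact IsQuad.comp_equiv (hreg1 x1 hx1.2).2 e'.symm
          · change (b1.stalkMap x1).hom (e'.symm P.t) = stalkElt (b1 ≫ p) x1 ϖ
            rw [← he, ← he', e'.symm_apply_apply, stalkElt_comp])
    refine ⟨X2, b2 ≫ b1, hmod.comp h2 (fun x1 hx1 => hx1.2), ?_⟩
    intro x' hx'
    rw [Category.assoc]
    by_cases hT : b2 x' ∈ T
    · exact hb2 x' hT
    · have := h2.iso x' hT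
      rw [mem_bad_iff]
      intro hbad
      exact hT ⟨hbad, hx'⟩

/-- Embedded resolution of the closed fibre of a regular model. -/
theorem exists_snc_of_isM (hQ : QuadBlow.{u}) [Nonempty C] [Flat f]
    (hdim : ∀ c : C, ringKrullDim (C.presheaf.stalk c) ≤ 1) {X : Scheme.{u}} {p : X ⟶ Spec (CommRingCat.of R)}
    (hX : RMStep.IsM f X p) (hreg : ∀ x : X, IsRegularLocalRing (X.presheaf.stalk x)) :
    ∃ (X' : Scheme.{u}) (b : X' ⟶ X), RMStep.IsM f X' (b ≫ p) ∧
      (∀ x : X', IsRegularLocalRing (X'.presheaf.stalk x)) ∧ IsSNCModel (b ≫ p) := by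
  obtain ⟨ϖ, hϖ⟩ := IsDiscreteValuationRing.exists_irreducible R
  have hprop := hX.proper
  have hflat := hX.flat
  obtain ⟨X', b, hb, hb'⟩ := fin_step ϖ (bad p ϖ).ncard X p hX hreg (bad p ϖ)
    (finite_not_snc_isM f hX hreg hdim ϖ hϖ) le_rfl le_rfl (fun x hx => by
      obtain ⟨-, hdim2⟩ := of_mem_bad (fun x _ => hreg x) (RMSing.ringKrullDim_stalk_le_two f hX hdim) ϖ hϖ x hx
      have hr := hreg x
      let P : Pt.{u} := ⟨X.presheaf.stalk x, hdim2, stalkElt p x ϖ, stalkElt_ne_zero p x hϖ.ne_zero⟩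
      refine ⟨P, RingEquiv.refl _, rfl, sol_of_acc hQ hdim ϖ hϖ P (acc P ?_)⟩
      intro q hq hqt _
      apply H523.FinNorm.finite_integralClosure p x
      intro w hw
      obtain ⟨v, hv⟩ : ϖ ∣ w := by
        rwa [hϖ.maximalIdeal_eq, Ideal.mem_span_singleton] at hw
      rw [hv, map_mul]
      exact Ideal.mul_mem_right _ _ hqt)
  refine ⟨X', b, hb.isM, hb.reg, (isSNCModel_iff (b ≫ p) ϖ hϖ).2 ?_⟩
  rw [Set.eq_empty_iff_forall_notMem]
  intro x' hx'
  by_cases hT : b x' ∈ bad p ϖ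
  · exact hb' x' hT hx'
  · have := hb.iso x' hT
    exact hT ((mem_bad_iff p b x' ϖ).1 hx')

end Groth.Agent.Sga7.H150.Global
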