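import Groth.Agent.CalgA.RegBasic
import Groth.Agent.Sga7.H744.Defs
import Mathlib.Algebra.Module.SpanRankOperations
import Mathlib.LinearAlgebra.Dimension.OrzechProperty
import Mathlib.RingTheory.Ideal.KrullsHeightTheorem
import Mathlib.RingTheory.Ideal.Cotangent
import Mathlib.Algebra.Polynomial.FieldDivision

/-!
# Quadratic transforms of two-dimensional regular local rings

* `IsQuad φ`: `φ : A → B` is a quadratic transform (`B` is a local ring of the blow-up of the closed point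
  of `Spec A`, at a point over the closed point).
* `SNC2 A t`: `t = u f ^ a g ^ b` with `𝔪 = (f, g)`.
-/

set_option autoImplicit false
universe u

open IsLocalRing

namespace Groth.Agent.Sga7.H150.Quad

section dimTwo

variable {A : Type*} [CommRing A] [IsRegularLocalRing A] (hA : ringKrullDim A = 2) {f g : A}

lemma mem_left {A : Type*} [CommRing A] [IsLocalRing A] {f g : A}
    (h : Ideal.span {f, g} = maximalIdeal A) : f ∈ maximalIdeal A := by
  rw [← h]; exact Ideal.subset_span (by simp)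

lemma mem_right {A : Type*} [CommRing A] [IsLocalRing A] {f g : A}
    (h : Ideal.span {f, g} = maximalIdeal A) : g ∈ maximalIdeal A := by
  rw [← h]; exact Ideal.subset_span (by simp)

include hA in
lemma notMem_sq_left (h : Ideal.span {f, g} = maximalIdeal A) : f ∉ maximalIdeal A ^ 2 := by
  apply CalgA.RegBasic.notMem_sq_of_generators f [g]
  · rw [hA]; norm_num
  · rw [← h, Ideal.ofList]
    congr 1
    ext z
    simp

include hA in
lemma isPrime_left (h : Ideal.span {f, g} = maximalIdeal A) : (Ideal.span {f}).IsPrime := by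
  obtain ⟨h1, h2⟩ := CalgA.RegBasic.quotient_of_notMem_sq f (mem_left h) (notMem_sq_left hA h)
  have := CalgA.RegBasic.isDomain (A ⧸ Ideal.span {f})
  exact (Ideal.Quotient.isDomain_iff_prime _).1 this

include hA in
lemma ne_zero_left (h : Ideal.span {f, g} = maximalIdeal A) : f ≠ 0 := by
  rintro rfl
  exact notMem_sq_left hA h (Ideal.zero_mem _)

lemma comm_span {A : Type*} [CommRing A] [IsLocalRing A] {f g : A}
    (h : Ideal.span {f, g} = maximalIdeal A) : Ideal.span {g, f} = maximalIdeal A := by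
  rw [Set.pair_comm, h]

include hA in
lemma prime_left (h : Ideal.span {f, g} = maximalIdeal A) : Prime f :=
  (Ideal.span_singleton_prime (ne_zero_left hA h)).1 (isPrime_left hA h)

include hA in
/-- In a two-dimensional regular local ring there is no room between a nonzero prime and a
non-maximal prime. -/
lemma eq_of_le {q p : Ideal A} [q.IsPrime] [p.IsPrime] (hq : q ≠ ⊥) (hqp : q ≤ p)
    (hp : p ≠ maximalIdeal A) : q = p := by
  have := CalgA.RegBasic.isDomain A
  by_contra hne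
  have h1 : (⊥ : Ideal A) < q := bot_lt_iff_ne_bot.2 hq
  have h2 : q < p := lt_of_le_of_ne hqp hne
  have h3 : p < maximalIdeal A := lt_of_le_of_ne (le_maximalIdeal (Ideal.IsPrime.ne_top')) hp
  have e1 := Ideal.height_add_one_le_of_lt_of_isPrime h1
  have e2 := Ideal.height_add_one_le_of_lt_of_isPrime h2
  have e3 := Ideal.height_add_one_le_of_lt_of_isPrime h3
  have h5 : ((maximalIdeal A).height : WithBot ℕ∞) = 2 := by
    rw [IsLocalRing.maximalIdeal_height_eq_ringKrullDim, hA]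
  have h6 : (maximalIdeal A).height = 2 := WithBot.coe_injective h5
  rw [h6] at e3
  have f1 : (1 : ℕ∞) ≤ q.height := le_trans (by simp) e1
  have f2 : (2 : ℕ∞) ≤ p.height := by
    calc (2 : ℕ∞) = 1 + 1 := one_add_one_eq_two.symm
      _ ≤ q.height + 1 := by gcongr
      _ ≤ _ := e2
  have f3 : (3 : ℕ∞) ≤ 2 := by
    calc (3 : ℕ∞) = 2 + 1 := by norm_num
      _ ≤ p.height + 1 := by gcongr
      _ ≤ 2 := e3
  exact absurd f3 (by decide)

include hA in
lemma eq_span_left {p : Ideal A} [p.IsPrime] (h : Ideal.span {f, g} = maximalIdeal A)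
    (hf : f ∈ p) (hp : p ≠ maximalIdeal A) : p = Ideal.span {f} := by
  have := isPrime_left hA h
  symm
  apply eq_of_le hA (fun hb => ne_zero_left hA h (Ideal.span_singleton_eq_bot.1 hb)) _ hp
  rwa [Ideal.span_singleton_le_iff_mem]

include hA in
lemma mem_minimalPrimes {p : Ideal A} [p.IsPrime] {t : A} (ht : t ≠ 0) (htp : t ∈ p)
    (hp : p ≠ maximalIdeal A) : p ∈ (Ideal.span {t}).minimalPrimes := by
  obtain ⟨q, hq, hqp⟩ := Ideal.exists_minimalPrimes_le
    (show Ideal.span {t} ≤ p by rwa [Ideal.span_singleton_le_iff_mem])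
  have : q.IsPrime := hq.1.1
  have htq : t ∈ q := hq.1.2 (Ideal.mem_span_singleton_self t)
  have := eq_of_le hA (q := q) (p := p) (fun hb => ht (by rw [hb] at htq; simpa using htq)) hqp hp
  rwa [← this]

end dimTwo

/-- `t = u f ^ a g ^ b` with `𝔪 = (f, g)`. -/
def SNC2 (A : Type*) [CommRing A] [IsLocalRing A] (t : A) : Prop :=
  ∃ f g : A, Ideal.span {f, g} = maximalIdeal A ∧ ∃ (a b : ℕ) (u : Aˣ), t = u * f ^ a * g ^ b

lemma linearIndependent_pair {A : Type u} [CommRing A] [IsRegularLocalRing A] (hA : ringKrullDim A = 2)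
    {f g : A} (h : Ideal.span {f, g} = maximalIdeal A) :
    LinearIndependent (ResidueField A)
      (![(maximalIdeal A).toCotangent ⟨f, mem_left h⟩, (maximalIdeal A).toCotangent ⟨g, mem_right h⟩] :
        Fin 2 → CotangentSpace A) := by
  have h1 := IsRegularLocalRing.spanFinrank_maximalIdeal (R := A)
  rw [hA, IsLocalRing.spanFinrank_maximalIdeal_eq_finrank_cotangentSpace] at h1
  have h2 : Module.finrank (ResidueField A) (CotangentSpace A) = 2 := by exact_mod_cast h1
  apply linearIndependent_of_top_le_span_of_card_eq_finrank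
  · have h3 : Submodule.span (ResidueField A) ((maximalIdeal A).toCotangent ''
        ({⟨f, mem_left h⟩, ⟨g, mem_right h⟩} : Set (maximalIdeal A))) = ⊤ := by
      rw [CotangentSpace.span_image_eq_top_iff]
      apply Submodule.map_injective_of_injective (f := (maximalIdeal A).subtype) Subtype.val_injective
      rw [Submodule.map_span, Submodule.map_top, Submodule.range_subtype, Set.image_pair]
      exact h
    rw [← h3, Set.image_pair]
    apply Submodule.span_mono
    rintro _ (rfl | rfl)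
    · exact ⟨0, rfl⟩
    · exact ⟨1, rfl⟩
  · rw [h2]; rfl

theorem SNC2.isSNCElt {A : Type u} [CommRing A] [IsRegularLocalRing A] (hA : ringKrullDim A = 2)
    {t : A} (h : SNC2 A t) : H744.Defs.IsSNCElt A t := by
  obtain ⟨f, g, hfg, a, b, w, rfl⟩ := h
  have hli := linearIndependent_pair hA hfg
  rcases Nat.eq_zero_or_pos a with ha | ha <;> rcases Nat.eq_zero_or_pos b with hb | hb
  · refine ⟨0, Fin.elim0, fun i => i.elim0, Fin.elim0, w, fun i => i.elim0, linearIndependent_empty_type, ?_⟩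
    simp [ha, hb]
  · refine ⟨1, fun _ => g, fun _ => mem_right hfg, fun _ => b, w, fun _ => hb, ?_, ?_⟩
    · rw [linearIndependent_unique_iff]
      exact hli.ne_zero 1
    · simp [ha]
  · refine ⟨1, fun _ => f, fun _ => mem_left hfg, fun _ => a, w, fun _ => ha, ?_, ?_⟩
    · rw [linearIndependent_unique_iff]
      exact hli.ne_zero 0
    · simp [hb]
  · refine ⟨2, ![f, g], fun i => ?_, ![a, b], w, fun i => ?_, ?_, ?_⟩
    · fin_cases i
      · exact mem_left hfg
      · exact mem_right hfg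
    · fin_cases i
      · exact ha
      · exact hb
    · convert hli using 1
      funext i
      fin_cases i <;> rfl
    · simp [Fin.prod_univ_two, mul_assoc]

/-- Divisors of `f ^ a * g ^ b * u`, `f` and `g` prime. -/
lemma exists_of_dvd_prime_pow {A : Type*} [CommRing A] [IsDomain A] {f g : A} (hf : Prime f) (hg : Prime g)
    (n : ℕ) : ∀ (a b : ℕ), a + b = n → ∀ (t : A), t ∣ f ^ a * g ^ b →
      ∃ (c d : ℕ) (u : Aˣ), t = u * f ^ c * g ^ d := by
  induction n with
  | zero =>
    intro a b hab t ht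
    have h1 : a = 0 := by omega
    have h2 : b = 0 := by omega
    rw [h1, h2, pow_zero, pow_zero, mul_one] at ht
    obtain ⟨u, rfl⟩ := isUnit_of_dvd_one ht
    exact ⟨0, 0, u, by simp⟩
  | succ n ih =>
    intro a b hab t ht
    obtain ⟨s, hs⟩ := ht
    rcases Nat.eq_zero_or_pos a with ha | ha
    · obtain ⟨b, rfl⟩ : ∃ b', b = b' + 1 := ⟨b - 1, by omega⟩
      rw [ha, pow_zero, one_mul, pow_succ] at hs
      have h1 : g ∣ t * s := ⟨g ^ b, by rw [← hs, mul_comm]⟩
      rcases hg.dvd_or_dvd h1 with ⟨t', rfl⟩ | ⟨s', rfl⟩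
      · have h2 : g ^ b = t' * s := by
          apply mul_left_cancel₀ hg.ne_zero
          rw [mul_comm, hs]; ring
        obtain ⟨c, d, u, hu⟩ := ih 0 b (by omega) t' ⟨s, by rw [← h2]; simp⟩
        exact ⟨c, d + 1, u, by rw [hu]; ring⟩
      · have h2 : g ^ b = t * s' := by
          apply mul_left_cancel₀ hg.ne_zero
          rw [mul_comm, hs]; ring
        exact ih 0 b (by omega) t ⟨s', by rw [← h2]; simp⟩
    · obtain ⟨a, rfl⟩ : ∃ a', a = a' + 1 := ⟨a - 1, by omega⟩
      have h1 : f ∣ t * s := ⟨f ^ a * g ^ b, by rw [← hs]; ring⟩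
      rcases hf.dvd_or_dvd h1 with ⟨t', rfl⟩ | ⟨s', rfl⟩
      · have h2 : f ^ a * g ^ b = t' * s := by
          apply mul_left_cancel₀ hf.ne_zero
          calc f * (f ^ a * g ^ b) = f ^ (a + 1) * g ^ b := by ring
            _ = f * (t' * s) := by rw [hs]; ring
        obtain ⟨c, d, u, hu⟩ := ih a b (by omega) t' ⟨s, h2⟩
        exact ⟨c + 1, d, u, by rw [hu]; ring⟩
      · have h2 : f ^ a * g ^ b = t * s' := by
          apply mul_left_cancel₀ hf.ne_zero
          calc f * (f ^ a * g ^ b) = f ^ (a + 1) * g ^ b := by ring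
            _ = f * (t * s') := by rw [hs]; ring
        exact ih a b (by omega) t ⟨s', h2⟩

theorem SNC2.of_dvd_pow {A : Type*} [CommRing A] [IsRegularLocalRing A] (hA : ringKrullDim A = 2)
    {s t : A} (h : SNC2 A s) (N : ℕ) (ht : t ∣ s ^ N) : SNC2 A t := by
  have := CalgA.RegBasic.isDomain A
  obtain ⟨f, g, hfg, a, b, w, rfl⟩ := h
  have hf := prime_left hA hfg
  have hg := prime_left hA (comm_span hfg)
  obtain ⟨c, d, u, hu⟩ := exists_of_dvd_prime_pow hf hg (a * N + b * N) (a * N) (b * N) rfl t (by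
    obtain ⟨r, hr⟩ := ht
    refine ⟨r * ((w⁻¹ : Aˣ) ^ N : Aˣ), ?_⟩
    rw [← mul_assoc, ← hr, mul_pow, mul_pow, ← pow_mul, ← pow_mul]
    have : ((w : A) ^ N) * (((w⁻¹ : Aˣ) ^ N : Aˣ) : A) = 1 := by
      rw [← Units.val_pow_eq_pow_val, ← Units.val_mul, ← mul_pow, mul_inv_cancel, one_pow, Units.val_one]
    linear_combination (-(f ^ (a * N) * g ^ (b * N))) * this)
  exact ⟨f, g, hfg, c, d, u, hu⟩

/-- `φ : A → B` is a quadratic transform of the local ring `A`. -/
def IsQuad {A B : Type*} [CommRing A] [IsLocalRing A] [CommRing B] [IsLocalRing B] (φ : A →+* B) : Prop :=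
  Function.Injective φ ∧ IsLocalHom φ ∧ ∃ x ∈ maximalIdeal A, (maximalIdeal A).map φ = Ideal.span {φ x} ∧
    ∀ z : B, ∃ n, ∃ a ∈ maximalIdeal A ^ n, ∃ a1 ∈ maximalIdeal A ^ n, ∃ s : B, IsUnit s ∧
      φ a1 = φ x ^ n * s ∧ φ a = φ x ^ n * (s * z)

section quad

variable {A B : Type*} [CommRing A] [IsLocalRing A] [CommRing B] {φ : A →+* B}

/-- Elements of `𝔪 ^ n` become `f ^ n` times polynomials in the ratio `θ = g / f` of two generators. -/
lemma exists_poly {f g : A} (hfg : Ideal.span {f, g} = maximalIdeal A) {θ : B}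
    (hθ : φ g = φ f * θ) (n : ℕ) : ∀ a ∈ maximalIdeal A ^ n, ∃ P : Polynomial A,
      φ a = φ f ^ n * P.eval₂ φ θ := by
  induction n with
  | zero =>
    intro a _
    exact ⟨Polynomial.C a, by simp⟩
  | succ n ih =>
    intro a ha
    rw [pow_succ] at ha
    refine Submodule.mul_induction_on ha ?_ ?_
    · intro c hc d hd
      obtain ⟨P, hP⟩ := ih c hc
      rw [← hfg, Ideal.mem_span_pair] at hd
      obtain ⟨r, s, rfl⟩ := hd
      refine ⟨P * (Polynomial.C r + Polynomial.C s * Polynomial.X), ?_⟩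
      rw [Polynomial.eval₂_mul, Polynomial.eval₂_add, Polynomial.eval₂_mul, Polynomial.eval₂_C,
        Polynomial.eval₂_C, Polynomial.eval₂_X, map_mul, hP, map_add, map_mul, map_mul, hθ]
      ring
    · rintro c d ⟨P, hP⟩ ⟨Q, hQ⟩
      exact ⟨P + Q, by rw [map_add, hP, hQ, Polynomial.eval₂_add]; ring⟩

/-- The structure of a quadratic transform relative to two generators `f, g` of `𝔪` with `𝔪 B = f B`. -/
structure Good [IsLocalRing B] (φ : A →+* B) (f g : A) (θ : B) : Prop where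
  loc : ∀ a ∈ maximalIdeal A, φ a ∈ maximalIdeal B
  map : (maximalIdeal A).map φ = Ideal.span {φ f}
  eq : φ g = φ f * θ
  frac : ∀ z : B, ∃ P Q : Polynomial A, IsUnit (Q.eval₂ φ θ) ∧ P.eval₂ φ θ = Q.eval₂ φ θ * z

variable [IsDomain B] [IsLocalRing B]

lemma IsQuad.good_aux (h : IsQuad φ) {f g : A} (hfg : Ideal.span {f, g} = maximalIdeal A)
    {x : A} (hx0 : φ x ≠ 0) (hx : (maximalIdeal A).map φ = Ideal.span {φ x}) 
    (hfr : ∀ z : B, ∃ n, ∃ a ∈ maximalIdeal A ^ n, ∃ a1 ∈ maximalIdeal A ^ n, ∃ s : B, IsUnit s ∧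
      φ a1 = φ x ^ n * s ∧ φ a = φ x ^ n * (s * z)) {c : B} (hc : IsUnit c) (hf : φ f = φ x * c) :
    ∃ θ, Good φ f g θ := by
  obtain ⟨c, rfl⟩ := hc
  have hg : φ g ∈ Ideal.span {φ x} := by
    rw [← hx]; exact Ideal.mem_map_of_mem _ (mem_right hfg)
  obtain ⟨d, hd⟩ := Ideal.mem_span_singleton.1 hg
  have hxc : φ x = φ f * (c⁻¹ : Bˣ) := by
    rw [hf, mul_assoc, Units.mul_inv, mul_one]
  have heq : φ g = φ f * (((c⁻¹ : Bˣ) : B) * d) := by
    rw [hd, hxc]; ring
  have hf0 : φ f ≠ 0 := by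
    rw [hf]; exact mul_ne_zero hx0 c.ne_zero
  refine ⟨(c⁻¹ : Bˣ) * d, ⟨fun a ha => ?_, ?_, heq, fun z => ?_⟩⟩
  · have := h.2.1
    rw [mem_maximalIdeal, mem_nonunits_iff] at ha ⊢
    exact fun hu => ha (this.map_nonunit a hu)
  · rw [hx, hxc]
    exact (Ideal.span_singleton_mul_right_unit (Units.isUnit _) _)
  · obtain ⟨n, a, ha, a1, ha1, s, hs, e1, e2⟩ := hfr z
    obtain ⟨P, hP⟩ := exists_poly hfg heq n a ha
    obtain ⟨Q, hQ⟩ := exists_poly hfg heq n a1 ha1
    have hxn : φ x ^ n = φ f ^ n * ((c⁻¹ : Bˣ) : B) ^ n := by rw [hxc, mul_pow]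
    have hQ' : Q.eval₂ φ ((c⁻¹ : Bˣ) * d) = ((c⁻¹ : Bˣ) : B) ^ n * s := by
      apply mul_left_cancel₀ (pow_ne_zero n hf0)
      rw [← hQ, e1, hxn]; ring
    have hP' : P.eval₂ φ ((c⁻¹ : Bˣ) * d) = ((c⁻¹ : Bˣ) : B) ^ n * s * z := by
      apply mul_left_cancel₀ (pow_ne_zero n hf0)
      rw [← hP, e2, hxn]; ring
    refine ⟨P, Q, ?_, ?_⟩
    · rw [hQ']
      exact ((Units.isUnit _).pow n).mul hs
    · rw [hQ', hP']

lemma IsQuad.exists_good (h : IsQuad φ) {f g : A} (hfg : Ideal.span {f, g} = maximalIdeal A)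
    (hf0 : f ≠ 0) : (∃ θ, Good φ f g θ) ∨ (∃ θ, Good φ g f θ) := by
  obtain ⟨x, hxm, hx, hfr⟩ := h.2.2
  have hx0 : φ x ≠ 0 := by
    intro h0
    have h1 : φ f ∈ Ideal.span {φ x} := by
      rw [← hx]; exact Ideal.mem_map_of_mem _ (mem_left hfg)
    rw [h0, Ideal.mem_span_singleton, zero_dvd_iff] at h1
    exact hf0 (h.1 (h1.trans (map_zero φ).symm))
  have hf : φ f ∈ Ideal.span {φ x} := by
    rw [← hx]; exact Ideal.mem_map_of_mem _ (mem_left hfg)
  have hg : φ g ∈ Ideal.span {φ x} := by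
    rw [← hx]; exact Ideal.mem_map_of_mem _ (mem_right hfg)
  obtain ⟨c, hc⟩ := Ideal.mem_span_singleton.1 hf
  obtain ⟨d, hd⟩ := Ideal.mem_span_singleton.1 hg
  have hxx : φ x ∈ Ideal.span {φ f, φ g} := by
    have e : (maximalIdeal A).map φ = Ideal.span {φ f, φ g} := by
      rw [← hfg, Ideal.map_span, Set.image_pair]
    rw [← e, hx]
    exact Ideal.mem_span_singleton_self _
  obtain ⟨r, s, hrs⟩ := Ideal.mem_span_pair.1 hxx
  have h1 : r * c + s * d = 1 := by
    apply mul_left_cancel₀ hx0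
    rw [mul_one]
    conv_rhs => rw [← hrs, hc, hd]
    ring
  rcases IsLocalRing.isUnit_or_isUnit_of_add_one h1 with h2 | h2
  · left
    exact h.good_aux hfg hx0 hx hfr (isUnit_of_mul_isUnit_right h2) hc
  · right
    exact h.good_aux (comm_span hfg) hx0 hx hfr (isUnit_of_mul_isUnit_right h2) hd

variable {f g : A} {θ : B}

omit [IsDomain B] in
/-- A polynomial with coefficients in `𝔪` has its value in `f B`. -/
lemma Good.eval_mem (hG : Good φ f g θ) {P : Polynomial A}
    (hP : P.map (residue A) = 0) : P.eval₂ φ θ ∈ Ideal.span {φ f} := by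
  rw [Polynomial.eval₂_eq_sum_range]
  apply Ideal.sum_mem
  intro i _
  apply Ideal.mul_mem_right
  rw [← hG.map]
  apply Ideal.mem_map_of_mem
  have : (P.map (residue A)).coeff i = 0 := by rw [hP, Polynomial.coeff_zero]
  rwa [Polynomial.coeff_map, residue_eq_zero_iff] at this

omit [IsDomain B] in
/-- The exceptional parameter is part of a regular system of parameters. -/
lemma Good.exists_param (hG : Good φ f g θ) (hf : f ∈ maximalIdeal A) :
    ∃ y, Ideal.span {φ f, y} = maximalIdeal B := by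
  have hloc : IsLocalHom φ := by
    constructor
    intro a ha
    by_contra hna
    exact hG.loc a ((mem_maximalIdeal a).2 hna) ha
  let ψ : Polynomial (ResidueField A) →+* ResidueField B :=
    Polynomial.eval₂RingHom (ResidueField.map φ) (residue B θ)
  have hψ : ∀ P : Polynomial A, ψ (P.map (residue A)) = residue B (P.eval₂ φ θ) := by
    intro P
    change Polynomial.eval₂ _ _ (P.map (residue A)) = _
    rw [Polynomial.eval₂_map, Polynomial.hom_eval₂]
    rfl
  obtain ⟨y0, hy0⟩ := (IsPrincipalIdealRing.principal (RingHom.ker ψ)).principal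
  obtain ⟨Y, hY⟩ := Polynomial.map_surjective (residue A) residue_surjective y0
  refine ⟨Y.eval₂ φ θ, le_antisymm ?_ ?_⟩
  · rw [Ideal.span_le]
    rintro z (rfl | rfl)
    · exact hG.loc f hf
    · rw [SetLike.mem_coe, ← residue_eq_zero_iff, ← hψ, hY, ← RingHom.mem_ker, hy0]
      exact Submodule.mem_span_singleton_self _
  · intro z hz
    obtain ⟨P, Q, hQ, hPQ⟩ := hG.frac z
    have h1 : P.eval₂ φ θ ∈ maximalIdeal B := by rw [hPQ]; exact Ideal.mul_mem_left _ _ hz
    have h2 : P.map (residue A) ∈ RingHom.ker ψ := by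
      rw [RingHom.mem_ker, hψ, residue_eq_zero_iff]
      exact h1
    rw [hy0, Submodule.mem_span_singleton] at h2
    obtain ⟨r, hr⟩ := h2
    obtain ⟨R, rfl⟩ := Polynomial.map_surjective (residue A) residue_surjective r
    have h3 : (P - R * Y).map (residue A) = 0 := by
      rw [Polynomial.map_sub, Polynomial.map_mul, hY, ← hr, smul_eq_mul, sub_self]
    have h4 := hG.eval_mem h3
    rw [Polynomial.eval₂_sub, Polynomial.eval₂_mul] at h4
    have h5 : P.eval₂ φ θ ∈ Ideal.span {φ f, Y.eval₂ φ θ} := by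
      have h6 : P.eval₂ φ θ = (P.eval₂ φ θ - R.eval₂ φ θ * Y.eval₂ φ θ) + R.eval₂ φ θ * Y.eval₂ φ θ := by ring
      rw [h6]
      apply Ideal.add_mem
      · exact Ideal.span_mono (by simp) h4
      · exact Ideal.mul_mem_left _ _ (Ideal.subset_span (by simp))
    rw [hPQ] at h5
    exact (Ideal.unit_mul_mem_iff_mem _ hQ).1 h5

omit [IsDomain B] in
lemma Good.span_eq (hG : Good φ f g θ) (hf : f ∈ maximalIdeal A) (hθ : θ ∈ maximalIdeal B) :
    Ideal.span {φ f, θ} = maximalIdeal B := by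
  apply le_antisymm
  · rw [Ideal.span_le]
    rintro z (rfl | rfl)
    · exact hG.loc f hf
    · exact hθ
  · intro z hz
    obtain ⟨P, Q, hQ, hPQ⟩ := hG.frac z
    have h1 : P.eval₂ φ θ ∈ maximalIdeal B := by rw [hPQ]; exact Ideal.mul_mem_left _ _ hz
    obtain ⟨R, hR⟩ : ∃ R : Polynomial A, P = R * Polynomial.X + Polynomial.C (P.coeff 0) :=
      ⟨P.divX, (Polynomial.divX_mul_X_add P).symm⟩
    have h2 : P.eval₂ φ θ = R.eval₂ φ θ * θ + φ (P.coeff 0) := by
      conv_lhs => rw [hR]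
      rw [Polynomial.eval₂_add, Polynomial.eval₂_mul, Polynomial.eval₂_X, Polynomial.eval₂_C]
    have h3 : φ (P.coeff 0) ∈ maximalIdeal B := by
      have : φ (P.coeff 0) = P.eval₂ φ θ - R.eval₂ φ θ * θ := by rw [h2]; ring
      rw [this]
      exact Ideal.sub_mem _ h1 (Ideal.mul_mem_left _ _ hθ)
    have h4 : P.coeff 0 ∈ maximalIdeal A := by
      rw [mem_maximalIdeal, mem_nonunits_iff]
      intro hu
      exact (mem_maximalIdeal _).1 h3 (hu.map φ)
    have h5 : P.eval₂ φ θ ∈ Ideal.span {φ f, θ} := by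
      rw [h2]
      apply Ideal.add_mem
      · exact Ideal.mul_mem_left _ _ (Ideal.subset_span (by simp))
      · have : φ (P.coeff 0) ∈ Ideal.span {φ f} := by
          rw [← hG.map]; exact Ideal.mem_map_of_mem _ h4
        exact Ideal.span_mono (by simp) this
    rw [hPQ] at h5
    exact (Ideal.unit_mul_mem_iff_mem _ hQ).1 h5

omit [IsDomain B] in
lemma Good.snc2 (hG : Good φ f g θ) (hf : f ∈ maximalIdeal A) (a b : ℕ) (u : Aˣ) (v : Bˣ) :
    SNC2 B (φ (u * f ^ a * g ^ b) * (φ f * v)) := by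
  by_cases hθ : θ ∈ maximalIdeal B
  · refine ⟨φ f, θ, hG.span_eq hf hθ, a + b + 1, b, Units.map φ.toMonoidHom u * v, ?_⟩
    rw [map_mul, map_mul, map_pow, map_pow, hG.eq, Units.val_mul]
    simp only [Units.coe_map, RingHom.toMonoidHom_eq_coe, MonoidHom.coe_coe]
    ring
  · obtain ⟨y, hy⟩ := hG.exists_param hf
    rw [mem_maximalIdeal, mem_nonunits_iff, not_not] at hθ
    obtain ⟨w, rfl⟩ := hθ
    refine ⟨φ f, y, hy, a + b + 1, 0, Units.map φ.toMonoidHom u * v * w ^ b, ?_⟩
    rw [map_mul, map_mul, map_pow, map_pow, hG.eq, Units.val_mul, Units.val_mul, Units.val_pow_eq_pow_val]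
    simp only [Units.coe_map, RingHom.toMonoidHom_eq_coe, MonoidHom.coe_coe]
    ring

omit [IsLocalRing B] in
/-- Two generators of `𝔪 B` differ by a unit. -/
lemma exists_unit_of_span_eq {x y : B} (h : Ideal.span {x} = Ideal.span {y}) :
    ∃ v : Bˣ, y = x * v := by
  rw [Ideal.span_singleton_eq_span_singleton] at h
  obtain ⟨v, hv⟩ := h
  exact ⟨v, hv.symm⟩

lemma SNC2.quad {t x : A} (ht : SNC2 A t) (h : IsQuad φ) (h0 : ∀ f g : A, Ideal.span {f, g} = maximalIdeal A → f ≠ 0)
    (hx : (maximalIdeal A).map φ = Ideal.span {φ x}) : SNC2 B (φ t * φ x) := by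
  obtain ⟨f, g, hfg, a, b, u, rfl⟩ := ht
  rcases h.exists_good hfg (h0 f g hfg) with ⟨θ, hG⟩ | ⟨θ, hG⟩
  · obtain ⟨v, hv⟩ := exists_unit_of_span_eq (hG.map.symm.trans hx)
    rw [hv]
    exact hG.snc2 (mem_left hfg) a b u v
  · obtain ⟨v, hv⟩ := exists_unit_of_span_eq (hG.map.symm.trans hx)
    rw [hv]
    have := hG.snc2 (mem_right hfg) b a u v
    rwa [show (u : A) * g ^ b * f ^ a = u * f ^ a * g ^ b by ring] at this

lemma IsQuad.exists_param {x : A} (h : IsQuad φ) {f g : A} (hfg : Ideal.span {f, g} = maximalIdeal A) (hf : f ≠ 0)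
    (hx : (maximalIdeal A).map φ = Ideal.span {φ x}) : ∃ y, Ideal.span {φ x, y} = maximalIdeal B := by
  have key : ∀ f g : A, ∀ θ : B, Ideal.span {f, g} = maximalIdeal A → Good φ f g θ →
      ∃ y, Ideal.span {φ x, y} = maximalIdeal B := by
    intro f g θ hfg hG
    obtain ⟨y, hy⟩ := hG.exists_param (mem_left hfg)
    refine ⟨y, ?_⟩
    rw [← hy, Ideal.span_insert, Ideal.span_insert, ← hx, hG.map]
  rcases h.exists_good hfg hf with ⟨θ, hG⟩ | ⟨θ, hG⟩
  · exact key f g θ hfg hG
  · exact key g f θ (comm_span hfg) hG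

end quad

end Groth.Agent.Sga7.H150.Quad
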