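import Groth.Agent.Sga7.H150.Chain

/-!
# Termination of embedded resolution, in a field

There is no infinite chain of quadratic transforms of two-dimensional regular local rings along which a
given element is never in normal crossings form.
-/

set_option autoImplicit false
universe u

open IsLocalRing

namespace Groth.Agent.Sga7.H150.Chain

open ValChain Quad

variable {K : Type u} [Field K]

namespace QChain

variable (C : QChain K)

section

variable {κ : Type u} [Field κ] {D : Subring K} {γ : D →+* κ} {hD : ∀ j, (C.A j).toSubring ≤ D}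
  {Q : ℕ → Set K} {V : ValuationSubring κ} {j0 : ℕ}

/-- The data at hand after the residue rings have become the discrete valuation ring `V`. -/
structure Stable (γ : D →+* κ) (hD : ∀ j, (C.A j).toSubring ≤ D) (Q : ℕ → Set K) (V : ValuationSubring κ) (j0 : ℕ) :
    Prop where
  hQ : ∀ j, IsPr (C.A j) (Q j)
  hx : ∀ i j, i < j → C.x i ∉ Q j
  hker : ∀ j, ∀ z (hz : z ∈ (C.A j).toSubring), γ ⟨z, hD j hz⟩ = 0 ↔ z ∈ Q j
  le : ∀ i, C.O γ hD i ≤ V.toLocalSubring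
  eq : ∀ j, j0 ≤ j → C.O γ hD j = V.toLocalSubring

variable {C}

lemma Stable.x_ne_zero (S : C.Stable γ hD Q V j0) (j : ℕ) : γ ⟨C.x j, hD j (C.x_mem j).1⟩ ≠ 0 := by
  intro h
  have h1 : C.x j ∈ (C.A (j + 1)).toSubring := (C.x_mem' (Nat.le_succ j)).1
  exact S.hx j (j + 1) (Nat.lt_succ_self j) ((S.hker (j + 1) _ h1).1 h)

lemma Stable.mem_mx (S : C.Stable γ hD Q V j0) (j : ℕ) {z : K} (hz : z ∈ mx (C.A j)) :
    γ ⟨z, hD j hz.1⟩ ∈ mx V.toLocalSubring :=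
  mx_mono (S.le j) ((C.mem_mx_O S.hQ S.hker hz.1).2 hz)

lemma Stable.mem_V (S : C.Stable γ hD Q V j0) (j : ℕ) {z : K} (hz : z ∈ (C.A j).toSubring) :
    γ ⟨z, hD j hz⟩ ∈ V :=
  (S.le j).1 (C.mem_O.2 ⟨z, hz, rfl⟩)

/-- The exceptional parameters generate the maximal ideal of `V`. -/
lemma Stable.exists_mul (S : C.Stable γ hD Q V j0) {j : ℕ} (hj : j0 ≤ j) {c : κ} (hc : c ∈ mx V.toLocalSubring) :
    ∃ (s : K) (hs : s ∈ (C.A (j + 1)).toSubring), c = γ ⟨C.x j, hD j (C.x_mem j).1⟩ * γ ⟨s, hD (j + 1) hs⟩ := by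
  rw [← S.eq j hj] at hc
  obtain ⟨z, hz, rfl⟩ := C.mem_O.1 hc.1
  rw [C.mem_mx_O S.hQ S.hker hz] at hc
  obtain ⟨s, hs, rfl⟩ := C.dvd j z hc
  refine ⟨s, hs, ?_⟩
  rw [← map_mul]
  rfl

/-- The surviving prime is generated by a regular parameter, complementary to the exceptional one. -/
lemma Stable.exists_param (S : C.Stable γ hD Q V j0) {j : ℕ} (hj : j0 ≤ j) :
    ∃ (hx : C.x j ∈ (C.A (j + 1)).toSubring) (f : K) (hf : f ∈ (C.A (j + 1)).toSubring), f ∈ Q (j + 1) ∧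
      Ideal.span {⟨C.x j, hx⟩, ⟨f, hf⟩} = maximalIdeal (C.A (j + 1)).toSubring := by
  obtain ⟨hx, y, hy⟩ := C.par j
  have hym : (y : K) ∈ mx (C.A (j + 1)) := ⟨y.2, mem_right hy⟩
  obtain ⟨s, hs, h⟩ := S.exists_mul hj (S.mem_mx (j + 1) hym)
  have hf : (y : K) - C.x j * s ∈ (C.A (j + 1)).toSubring :=
    Subring.sub_mem _ y.2 (Subring.mul_mem _ hx hs)
  refine ⟨hx, _, hf, ?_, ?_⟩
  · rw [← S.hker (j + 1) _ hf]
    have e : (⟨(y : K) - C.x j * s, hD (j + 1) hf⟩ : D) =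
      ⟨(y : K), hD (j + 1) y.2⟩ - ⟨C.x j, hD j (C.x_mem j).1⟩ * ⟨s, hD (j + 1) hs⟩ := rfl
    rw [e, map_sub, map_mul, h, sub_self]
  · rw [← hy]
    have e : (⟨(y : K) - C.x j * s, hf⟩ : (C.A (j + 1)).toSubring) = y - ⟨C.x j, hx⟩ * ⟨s, hs⟩ := rfl
    rw [e]
    apply le_antisymm
    · rw [Ideal.span_le]
      rintro z (rfl | rfl)
      · exact Ideal.subset_span (by simp)
      · exact Ideal.sub_mem _ (Ideal.subset_span (by simp)) (Ideal.mul_mem_right _ _ (Ideal.subset_span (by simp)))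
    · rw [Ideal.span_le]
      rintro z (rfl | rfl)
      · exact Ideal.subset_span (by simp)
      · have h1 : z = (z - ⟨C.x j, hx⟩ * ⟨s, hs⟩) + ⟨C.x j, hx⟩ * ⟨s, hs⟩ := by ring
        rw [SetLike.mem_coe, h1]
        apply Ideal.add_mem
        · rw [← h1]
          exact Ideal.subset_span (by simp)
        · exact Ideal.mul_mem_right _ _ (Ideal.subset_span (by simp))

/-- If the last exceptional parameter is not in a prime, no earlier one (after stage `j0`) is. -/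
lemma Stable.x_notMem (S : C.Stable γ hD Q V j0) {j : ℕ} {Q' : Set K} (hQ' : IsPr (C.A (j + 1)) Q')
    (hx : C.x j ∉ Q') : ∀ l, j0 ≤ l → l ≤ j → C.x l ∉ Q' := by
  have key : ∀ d l, l + d = j → j0 ≤ l → C.x l ∉ Q' := by
    intro d
    induction d with
    | zero =>
      intro l hl _
      rw [Nat.add_zero] at hl
      rwa [hl]
    | succ d ih =>
      intro l hl hl0 hlQ
      have h1 := ih (l + 1) (by omega) (by omega)
      apply h1
      -- `x l = x (l + 1) * h` with `h` a unit of `A (l + 2)`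
      obtain ⟨h, hh, hlh⟩ := C.dvd (l + 1) (C.x l) (C.x_mem' (Nat.le_succ l))
      have hxm : γ ⟨C.x (l + 1), hD (l + 1) (C.x_mem (l + 1)).1⟩ ∈ mx V.toLocalSubring :=
        S.mem_mx (l + 1) (C.x_mem (l + 1))
      obtain ⟨s, hs, hs'⟩ := S.exists_mul hl0 hxm
      have e1 : γ ⟨C.x l, hD l (C.x_mem l).1⟩ =
          γ ⟨C.x (l + 1), hD (l + 1) (C.x_mem (l + 1)).1⟩ * γ ⟨h, hD (l + 2) hh⟩ := by
        rw [← map_mul]
        congr 1
        exact Subtype.ext hlh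
      have e2 : γ ⟨h, hD (l + 2) hh⟩ * γ ⟨s, hD (l + 1) hs⟩ = 1 := by
        apply mul_left_cancel₀ (S.x_ne_zero (l + 1))
        rw [← mul_assoc, ← e1, mul_one]
        exact hs'.symm
      have e3 : h ∉ mx (C.A (l + 2)) := by
        intro hm
        exact notMem_mx (R := V.toLocalSubring) (S.mem_V (l + 1) hs) e2 (S.mem_mx (l + 2) hm)
      obtain ⟨h4, h5⟩ := inv_mem hh e3
      have e4 : C.x (l + 1) = C.x l * h⁻¹ := by
        rw [hlh]; field_simp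
      rw [e4]
      exact hQ'.mul _ hlQ _ ((C.mono (show l + 2 ≤ j + 1 by omega)).1 h4)
  intro l hl hlj
  exact key (j - l) l (by omega) hl

/-- An element of a surviving prime has value at least the number of steps. -/
lemma Stable.mem_pow (S : C.Stable γ hD Q V j0) {j1 : ℕ} {t' : K} (ht' : t' ∈ (C.A j1).toSubring) (k : ℕ) :
    ∀ Q' : Set K, IsPr (C.A (j1 + k)) Q' → (∀ i, j1 ≤ i → i < j1 + k → C.x i ∉ Q') → t' ∈ Q' →
      ∃ h ∈ (C.A (j1 + k)).toSubring, h ∈ Q' ∧ ∃ (hh : h ∈ D), ∃ c : V, c ∈ maximalIdeal V ^ k ∧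
        γ ⟨t', hD j1 ht'⟩ = c * γ ⟨h, hh⟩ := by
  induction k with
  | zero =>
    intro Q' hQ' _ htQ
    exact ⟨t', ht', htQ, hD j1 ht', 1, by simp, by simp⟩
  | succ k ih =>
    intro Q' hQ' hx htQ
    have hle : C.A (j1 + k) ≤ C.A (j1 + k + 1) := C.le _
    obtain ⟨h, hh, hhQ, hhD, c, hc, e⟩ := ih _ (hQ'.inter hle) (fun i hi hi' hxi => hx i hi (by omega) hxi.1)
      ⟨htQ, (C.mono (Nat.le_add_right j1 k)).1 ht'⟩
    have hhm : h ∈ mx (C.A (j1 + k)) := (hQ'.inter hle).sub _ hhQ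
    obtain ⟨h', hh', hhx⟩ := C.dvd _ h hhm
    have hh'Q : h' ∈ Q' := by
      have h1 : C.x (j1 + k) * h' ∈ Q' := by rw [← hhx]; exact hhQ.1
      exact (hQ'.prime _ (hle.1 (C.x_mem _).1) _ hh' h1).resolve_left (hx _ (by omega) (by omega))
    have hxm := S.mem_mx (j1 + k) (C.x_mem (j1 + k))
    refine ⟨h', hh', hh'Q, hD _ hh', c * ⟨_, hxm.1⟩, ?_, ?_⟩
    · rw [pow_succ]
      exact Ideal.mul_mem_mul hc hxm.2
    · rw [e]
      have e1 : γ ⟨h, hhD⟩ = γ ⟨C.x (j1 + k), hD _ (C.x_mem _).1⟩ * γ ⟨h', hD _ hh'⟩ := by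
        rw [← map_mul]
        congr 1
        exact Subtype.ext hhx
      rw [e1, ← mul_assoc]
      rfl

/-- Membership in a prime containing a regular parameter. -/
lemma mem_iff_dvd {R : LocalSubring K} [IsRegularLocalRing R.toSubring] (hR : ringKrullDim R.toSubring = 2)
    {Q : Set K} (hQ : IsPr R Q) {x f : R.toSubring} (h : Ideal.span {x, f} = maximalIdeal R.toSubring)
    (hf : (f : K) ∈ Q) {y : K} (hy : y ∈ mx R) (hyQ : y ∉ Q) (z : R.toSubring) : (z : K) ∈ Q ↔ f ∣ z := by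
  have := hQ.ideal_isPrime
  have h1 : hQ.ideal = Ideal.span {f} := by
    apply eq_span_left hR (comm_span h) hf
    intro h2
    obtain ⟨h3, h4⟩ := hy
    rw [← h2] at h4
    exact hyQ h4
  rw [← Ideal.mem_span_singleton, ← h1]
  rfl

end

/-- There is no infinite chain of quadratic transforms along which `t` is never in normal crossings form. -/
theorem false_of_forall (C : QChain K) {t : K} (ht : t ∈ (C.A 0).toSubring) (ht0 : t ≠ 0)
    (hbad : ∀ j, ¬ SK (C.A j) t)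
    (hN : ∀ (p : Ideal (C.A 0).toSubring) [p.IsPrime], (⟨t, ht⟩ : (C.A 0).toSubring) ∈ p →
      p ≠ maximalIdeal (C.A 0).toSubring →
      Module.Finite ((C.A 0).toSubring ⧸ p) (integralClosure ((C.A 0).toSubring ⧸ p)
        (FractionRing ((C.A 0).toSubring ⧸ p)))) : False := by
  obtain ⟨P, hP⟩ := C.exists_forever ht ht0 hbad
  choose Q hQ using hP
  obtain ⟨κ, _, D, γ, hD, hker, hfrac⟩ := C.exists_residue hQ
  obtain ⟨V, hV, j0, hle, heq⟩ := C.exists_dvr (fun j => (hQ j).isPr) (fun i j hij => (hQ j).x_notMem i hij)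
    hker hfrac ht ht0 (hQ 0).mem hN
  have S : C.Stable γ hD Q V j0 := ⟨fun j => (hQ j).isPr, fun i j hij => (hQ j).x_notMem i hij, hker, hle, heq⟩
  -- the generator of the surviving prime at stage `j0 + 1`
  obtain ⟨hx, f, hf, hfQ, hfx⟩ := S.exists_param (le_refl j0)
  have hdom := CalgA.RegBasic.isDomain (C.A (j0 + 1)).toSubring
  have hfp : Prime (⟨f, hf⟩ : (C.A (j0 + 1)).toSubring) := prime_left (C.dim (j0 + 1)) (comm_span hfx)
  have ht1 : t ∈ (C.A (j0 + 1)).toSubring := (C.mono (Nat.zero_le _)).1 ht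
  obtain ⟨a, t', ht'f, ht'⟩ := WfDvdMonoid.max_power_factor (a₀ := (⟨t, ht1⟩ : (C.A (j0 + 1)).toSubring))
    (fun h => ht0 (congrArg Subtype.val h)) hfp.irreducible
  have hQ1 : ∀ z : (C.A (j0 + 1)).toSubring, (z : K) ∈ Q (j0 + 1) ↔ (⟨f, hf⟩ : (C.A (j0 + 1)).toSubring) ∣ z :=
    mem_iff_dvd (C.dim (j0 + 1)) (S.hQ (j0 + 1)) hfx hfQ (C.x_mem' (Nat.le_succ j0))
      (S.hx j0 (j0 + 1) (Nat.lt_succ_self j0))
  have hγt' : γ ⟨t', hD _ t'.2⟩ ≠ 0 := by
    intro h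
    rw [hker (j0 + 1) _ t'.2, hQ1] at h
    exact ht'f h
  have hγV : γ ⟨t', hD _ t'.2⟩ ∈ V := S.mem_V (j0 + 1) t'.2
  obtain ⟨N, hNN⟩ : ∃ N, (⟨_, hγV⟩ : V) ∉ maximalIdeal V ^ N := by
    by_contra hno
    push Not at hno
    have h1 : (⟨_, hγV⟩ : V) ∈ (⨅ i : ℕ, maximalIdeal V ^ i) := by
      rw [Submodule.mem_iInf]
      exact hno
    rw [Ideal.iInf_pow_eq_bot_of_isLocalRing _ (maximalIdeal.isMaximal V).ne_top, Ideal.mem_bot] at h1
    exact hγt' (congrArg (fun v : V => (v : κ)) h1)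
  -- the last stage
  have hj : j0 ≤ j0 + 1 + N := by omega
  obtain ⟨hx2, f2, hf2, hf2Q, hfx2⟩ := S.exists_param hj
  apply hbad (j0 + 1 + N + 1)
  have hSK : SK (C.A (j0 + 1 + N + 1)) (C.x (j0 + 1 + N) * f2) := by
    refine ⟨Subring.mul_mem _ hx2 hf2, ⟨C.x (j0 + 1 + N), hx2⟩, ⟨f2, hf2⟩, hfx2, 1, 1, 1, ?_⟩
    simp only [Units.val_one, pow_one, one_mul]
    rfl
  apply hSK.of_forall (C.dim _) ((C.mono (Nat.zero_le _)).1 ht)
  intro Q' hQ' htQ'
  by_contra hno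
  have hxQ' : C.x (j0 + 1 + N) ∉ Q' := fun h => hno (hQ'.mul _ h _ hf2)
  have hfQ' : f2 ∉ Q' := by
    intro h
    apply hno
    rw [mul_comm]
    exact hQ'.mul _ h _ hx2
  have hxl := S.x_notMem hQ' hxQ'
  have hle1 : C.A (j0 + 1) ≤ C.A (j0 + 1 + N + 1) := C.mono (by omega)
  have hQ0 := hQ'.inter hle1
  have h1 : ((⟨f, hf⟩ ^ a : (C.A (j0 + 1)).toSubring) : K) * (t' : K) ∈ Q' := by
    have : ((⟨f, hf⟩ ^ a : (C.A (j0 + 1)).toSubring) : K) * (t' : K) = t := (congrArg Subtype.val ht').symm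
    rw [this]
    exact htQ'
  rcases hQ'.prime _ (hle1.1 (Subtype.property _)) _ (hle1.1 t'.2) h1 with h2 | h2
  · -- the generator of the surviving prime is in `Q'`
    have hfQ1 : f ∈ Q' := by
      by_contra hfn
      exact hQ'.pow_notMem (hle1.1 hf) hfn a h2
    apply hfQ'
    have h3 : ∀ z : (C.A (j0 + 1)).toSubring, (z : K) ∈ Q' ∩ (C.A (j0 + 1)).toSubring ↔
        (⟨f, hf⟩ : (C.A (j0 + 1)).toSubring) ∣ z :=
      mem_iff_dvd (C.dim (j0 + 1)) hQ0 hfx ⟨hfQ1, hf⟩ (C.x_mem (j0 + 1))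
        (fun h => hxl (j0 + 1) (by omega) (by omega) h.1)
    have h4 : Q (j0 + 1 + N + 1) = Q' := by
      apply C.eq_of_inter_eq (show j0 + 1 ≤ j0 + 1 + N + 1 by omega) (S.hQ _) hQ'
        (fun i _ hi => S.hx i _ hi)
      ext z
      constructor
      · rintro ⟨hz, hzA⟩
        have h5 := (S.hker _ z (hle1.1 hzA)).2 hz
        have h6 := (S.hker (j0 + 1) z hzA).1 h5
        exact (h3 ⟨z, hzA⟩).2 ((hQ1 ⟨z, hzA⟩).1 h6)
      · intro hz
        have h5 := (hQ1 ⟨z, hz.2⟩).2 ((h3 ⟨z, hz.2⟩).1 hz)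
        have h6 := (S.hker (j0 + 1) z hz.2).2 h5
        exact ⟨(S.hker _ z (hle1.1 hz.2)).1 h6, hz.2⟩
    rw [← h4]
    exact hf2Q
  · obtain ⟨h, hh, -, hhD, c, hc, e⟩ := S.mem_pow (j1 := j0 + 1) t'.2 N
      (Q' ∩ (C.A (j0 + 1 + N)).toSubring) (hQ'.inter (C.le _))
      (fun i hi hi' hxi => hxl i (by omega) (by omega) hxi.1) ⟨h2, (C.mono (Nat.le_add_right _ N)).1 t'.2⟩
    apply hNN
    have hhV : γ ⟨h, hhD⟩ ∈ V := S.mem_V _ hh
    have e2 : (⟨_, hγV⟩ : V) = c * ⟨_, hhV⟩ := Subtype.ext e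
    rw [e2]
    exact Ideal.mul_mem_right _ _ hc

end QChain

end Groth.Agent.Sga7.H150.Chain
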